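import Cfsg.Agent.KFacts.M24Two.QGroup
import Cfsg.Agent.OddHalf.D8.Front
import Cfsg.Agent.OddHalf.D8.SignKill
import Cfsg.Agent.OddHalf.D8.MainE
import Cfsg.Agent.OddHalf.D8.SheetMap
import Cfsg.Agent.KFacts.TwoSix.M24
import Cfsg.Agent.KFacts.M24Pair.Sub
import Cfsg.Agent.KFacts.M24Pair.Letters
import Cfsg.Agent.KFacts.M24Pair.Fix
import Cfsg.Agent.KFacts.M24Pair.LQuot
import Cfsg.Agent.SmallSimple.Simple168Klein
import Cfsg.Agent.SporadicA.M24Trans
import Cfsg.Agent.KFacts.M24Two.Out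

-- merged: Cfsg.Agent.OddHalf.M24.Pairs
section

/-!
# ODD half, D8, `K = M24`: Step 2 (helper785)

The involutions `y u`, `u ∈ E - 1`, commute (`Fam.comm`).
-/

set_option autoImplicit false

namespace Cfsg.Agent.OddHalf.M24

open Subgroup

section

variable {X : Type*} [Group X] {z : X}

theorem Cl_conj {u : X} (hu : u ∈ Cl z) (k : X) : k * u * k⁻¹ ∈ Cl z := by
  obtain ⟨m, rfl⟩ := hu
  exact ⟨k * m, by group⟩

theorem Cl_sq (hz : z * z = 1) {u : X} (hu : u ∈ Cl z) : u * u = 1 := by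
  obtain ⟨m, rfl⟩ := hu
  calc m * z * m⁻¹ * (m * z * m⁻¹) = m * (z * z) * m⁻¹ := by group
    _ = 1 := by rw [hz]; group

theorem Cl_ne (hz : z ≠ 1) {u : X} (hu : u ∈ Cl z) : u ≠ 1 := by
  obtain ⟨m, rfl⟩ := hu
  intro h
  apply hz
  rw [mul_inv_eq_one] at h
  exact mul_eq_left.1 h

end

variable {X G : Type*} [Group X] [Group G] {ι : X →* G} {t : G} {z : X} {y : X → G}

/-- `m` maps `t` to `t v` -/
def Ac (ι : X →* G) (t : G) (m : G) (v : X) : Prop := m * t * m⁻¹ = t * ι v

theorem Ac.mul {m n : G} {v w : X} (h1 : Ac ι t m v) (h2 : Ac ι t n w) (h : m * ι w = ι w * m) :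
    Ac ι t (m * n) (v * w) := by
  unfold Ac at *
  calc m * n * t * (m * n)⁻¹ = m * (n * t * n⁻¹) * m⁻¹ := by group
    _ = m * t * (m⁻¹ * (m * ι w)) * m⁻¹ := by rw [h2]; group
    _ = m * t * m⁻¹ * ι w := by rw [h]; group
    _ = t * ι (v * w) := by rw [h1, map_mul, mul_assoc]

theorem Ac.one_iff {m : G} : Ac ι t m 1 ↔ m * t = t * m := by
  unfold Ac
  rw [map_one, mul_one, mul_inv_eq_iff_eq_mul]

theorem Ac.inj (F : Amb ι t) {m : G} {v w : X} (h1 : Ac ι t m v) (h2 : Ac ι t m w) : v = w := by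
  unfold Ac at *
  exact F.inj (mul_left_cancel (h1.symm.trans h2))

namespace Amb

theorem tinv (F : Amb ι t) : t⁻¹ = t := inv_eq_of_mul_eq_one_left F.tt

theorem ac (F : Amb ι t) (x : X) : Ac ι t (ι x) 1 := Ac.one_iff.2 (F.ct x)

/-- `spl` with commuting information -/
theorem spl' (F : Amb ι t) {g : G} (hg : g * t = t * g) :
    ∃ x, (g = ι x ∨ g = t * ι x) ∧ (∀ k, g * ι k = ι k * g → x * k = k * x) ∧
      (∀ k, ι k * g * (ι k)⁻¹ = g → k * x * k⁻¹ = x) := by
  obtain ⟨x, hx⟩ := F.spl g hg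
  refine ⟨x, hx, ?_, ?_⟩
  · intro k hk
    apply F.inj
    rw [map_mul, map_mul]
    rcases hx with rfl | rfl
    · exact hk
    · have h1 : t * (ι x * ι k) = t * (ι k * ι x) := by
        calc t * (ι x * ι k) = t * ι x * ι k := by group
          _ = ι k * t * ι x := by rw [hk]; group
          _ = t * (ι k * ι x) := by rw [F.ct]; group
      exact mul_left_cancel h1
  · intro k hk
    apply F.inj
    rw [map_mul, map_mul, map_inv]
    rcases hx with rfl | rfl
    · exact hk
    · have h1 : t * (ι k * ι x * (ι k)⁻¹) = t * ι x := by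
        calc t * (ι k * ι x * (ι k)⁻¹) = (t * ι k) * ι x * (ι k)⁻¹ := by group
          _ = ι k * (t * ι x) * (ι k)⁻¹ := by rw [← F.ct]; group
          _ = t * ι x := hk
      exact mul_left_cancel h1

end Amb

namespace Fam

theorem sq (F : Fam ι t z y) {u : X} (hu : u ∈ Cl z) : u * u = 1 := Cl_sq F.zz hu

theorem ne1 (F : Fam ι t z y) {u : X} (hu : u ∈ Cl z) : u ≠ 1 := Cl_ne F.z1 hu

theorem ιsq (F : Fam ι t z y) {u : X} (hu : u ∈ Cl z) : ι u * ι u = 1 := by
  rw [← map_mul, F.sq hu, map_one]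

theorem ιne (F : Fam ι t z y) {u : X} (hu : u ≠ 1) : ι u ≠ 1 := fun h =>
  hu (F.inj (h.trans (map_one ι).symm))

theorem ycomm (F : Fam ι t z y) {u : X} (hu : u ∈ Cl z) {k : X} (h : k * u = u * k) :
    ι k * y u = y u * ι k := by
  have h1 := F.yeq u hu k
  rw [show k * u * k⁻¹ = u by rw [h]; group] at h1
  rw [eq_mul_inv_iff_mul_eq] at h1
  exact h1.symm

theorem yinv (F : Fam ι t z y) {u : X} (hu : u ∈ Cl z) : (y u)⁻¹ = y u :=
  inv_eq_of_mul_eq_one_left (F.ysq u hu)

theorem yac (F : Fam ι t z y) {u : X} (hu : u ∈ Cl z) : Ac ι t (y u) u := F.yt u hu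

/-- `t y_u t = y_u u` -/
theorem tyt (F : Fam ι t z y) {u : X} (hu : u ∈ Cl z) : t * y u * t = y u * ι u := by
  have h1 := F.yt u hu
  have h2 : y u * t = t * ι u * y u := mul_inv_eq_iff_eq_mul.1 h1
  have h3 : ι u * y u = y u * ι u := F.ycomm hu rfl
  calc t * y u * t = t * (y u * t) := by group
    _ = (t * t) * (ι u * y u) := by rw [h2]; group
    _ = y u * ι u := by rw [F.tt, one_mul, h3]

/-- `y_u` is not in the centralizer of `t` -/
theorem y_not_comm (F : Fam ι t z y) {u : X} (hu : u ∈ Cl z) : y u * t ≠ t * y u := by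
  intro h
  have h1 := Ac.inj F.toAmb (F.yac hu) (Ac.one_iff.2 h)
  exact F.ne1 hu h1

/-- **Step 2, first half** -/
theorem comm_or (F : Fam ι t z y) {u v : X} (hu : u ∈ Cl z) (hv : v ∈ Cl z) (huv : u * v = v * u)
    (hne : u ≠ v)
    (dc : ∀ x, (∀ c, c * u = u * c → c * v = v * c → x * c = c * x) →
      x = 1 ∨ x = u ∨ x = v ∨ x = u * v)
    (swap : ∃ k, k * u * k⁻¹ = v ∧ k * v * k⁻¹ = u) :
    y u * y v = y v * y u ∨ y u * y v * (y u * y v) = ι (u * v) := by
  have hu2 := F.sq hu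
  have hv2 := F.sq hv
  have h1 : Ac ι t (y u * y v) (u * v) :=
    (F.yac hu).mul (F.yac hv) (F.ycomm hu huv.symm).symm
  have h2 : y u * y v * ι (u * v) = ι (u * v) * (y u * y v) := by
    have a1 : ι (u * v) * y u = y u * ι (u * v) := F.ycomm hu (by rw [mul_assoc, ← huv])
    have a2 : ι (u * v) * y v = y v * ι (u * v) := F.ycomm hv (by
      rw [mul_assoc, ← mul_assoc v, ← huv, mul_assoc])
    calc y u * y v * ι (u * v) = y u * (y v * ι (u * v)) := by group
      _ = y u * ι (u * v) * y v := by rw [← a2]; group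
      _ = ι (u * v) * (y u * y v) := by rw [← a1]; group
  have h3 : Ac ι t (y u * y v * (y u * y v)) (u * v * (u * v)) := h1.mul h1 h2
  have huv2 : u * v * (u * v) = 1 := by
    calc u * v * (u * v) = u * (v * u) * v := by group
      _ = (u * u) * (v * v) := by rw [← huv]; group
      _ = 1 := by rw [hu2, hv2, one_mul]
  rw [huv2] at h3
  obtain ⟨x, hx, hxc, hxf⟩ := F.spl' (Ac.one_iff.1 h3)
  have hxx := dc x (fun c hcu hcv => hxc c (by
    have a1 := F.ycomm hu hcu
    have a2 := F.ycomm hv hcv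
    have a3 : y u * y v * ι c = ι c * (y u * y v) := by
      calc y u * y v * ι c = y u * (y v * ι c) := by group
        _ = (y u * ι c) * y v := by rw [← a2]; group
        _ = ι c * (y u * y v) := by rw [← a1]; group
    calc y u * y v * (y u * y v) * ι c = y u * y v * (y u * y v * ι c) := mul_assoc _ _ _
      _ = y u * y v * (ι c * (y u * y v)) := by rw [a3]
      _ = (y u * y v * ι c) * (y u * y v) := (mul_assoc _ _ _).symm
      _ = (ι c * (y u * y v)) * (y u * y v) := by rw [a3]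
      _ = ι c * (y u * y v * (y u * y v)) := mul_assoc _ _ _))
  -- `x` has order `≤ 2` and commutes with `u`, `v`
  have hxsq : x * x = 1 := by
    rcases hxx with rfl | rfl | rfl | rfl
    · exact one_mul 1
    · exact hu2
    · exact hv2
    · exact huv2
  have hxv : x * v = v * x := by
    rcases hxx with rfl | rfl | rfl | rfl
    · rw [one_mul, mul_one]
    · exact huv
    · rfl
    · rw [mul_assoc, ← mul_assoc v, ← huv, mul_assoc]
  -- `y v` inverts `c`
  have hinv : y v * (y u * y v * (y u * y v)) * y v = y v * y u * (y v * y u) := by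
    calc y v * (y u * y v * (y u * y v)) * y v = y v * y u * (y v * y u) * (y v * y v) := by group
      _ = y v * y u * (y v * y u) := by rw [F.ysq v hv, mul_one]
  have hprod : y u * y v * (y u * y v) * (y v * y u * (y v * y u)) = 1 := by
    calc y u * y v * (y u * y v) * (y v * y u * (y v * y u))
        = y u * y v * y u * (y v * y v) * y u * (y v * y u) := by group
      _ = y u * y v * (y u * y u) * (y v * y u) := by rw [F.ysq v hv]; group
      _ = y u * (y v * y v) * y u := by rw [F.ysq u hu]; group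
      _ = 1 := by rw [F.ysq v hv, mul_one, F.ysq u hu]
  rcases hx with hx | hx
  · -- `c = ι x`
    have hcc : y v * y u * (y v * y u) = y u * y v * (y u * y v) := by
      rw [hx] at hprod ⊢
      have h5 : ι x * ι x = 1 := by rw [← map_mul, hxsq, map_one]
      exact mul_left_cancel (hprod.trans h5.symm)
    obtain ⟨k, hk1, hk2⟩ := swap
    have hkc : ι k * (y u * y v * (y u * y v)) * (ι k)⁻¹ = y u * y v * (y u * y v) := by
      have e1 : ι k * y u * (ι k)⁻¹ = y v := by rw [← F.yeq u hu, hk1]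
      have e2 : ι k * y v * (ι k)⁻¹ = y u := by rw [← F.yeq v hv, hk2]
      calc ι k * (y u * y v * (y u * y v)) * (ι k)⁻¹
          = (ι k * y u * (ι k)⁻¹) * (ι k * y v * (ι k)⁻¹) *
            ((ι k * y u * (ι k)⁻¹) * (ι k * y v * (ι k)⁻¹)) := by group
        _ = y v * y u * (y v * y u) := by rw [e1, e2]
        _ = _ := hcc
    have hkx := hxf k hkc
    rcases hxx with rfl | rfl | rfl | rfl
    · left
      rw [map_one] at hx
      have h6 : (y u * y v)⁻¹ = y v * y u := by rw [mul_inv_rev, F.yinv hu, F.yinv hv]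
      rw [← h6]
      exact eq_inv_of_mul_eq_one_left hx
    · exact absurd (hkx.symm.trans hk1) hne
    · exact absurd (hk2.symm.trans hkx) hne
    · exact Or.inr hx
  · -- `c = t ι x` is impossible
    exfalso
    have h5 : t * ι x * (t * ι x) = 1 := by
      calc t * ι x * (t * ι x) = t * (ι x * t) * ι x := by group
        _ = t * t * (ι x * ι x) := by rw [F.ct]; group
        _ = 1 := by rw [F.tt, ← map_mul, hxsq, map_one, one_mul]
    have h6 : y v * (t * ι x) * y v = t * ι x := by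
      rw [← hx, hinv]
      rw [hx] at hprod ⊢
      exact mul_left_cancel (hprod.trans h5.symm)
    have h7 : ι x * y v = y v * ι x := F.ycomm hv hxv
    have h8 : y v * t * y v = t * ι v := by
      have := F.yt v hv
      rwa [F.yinv hv] at this
    have h9 : t * ι v * ι x = t * ι x := by
      calc t * ι v * ι x = y v * t * (y v * ι x) := by rw [← h8]; group
        _ = y v * (t * ι x) * y v := by rw [← h7]; group
        _ = t * ι x := h6
    have h10 : ι v = 1 := by
      have h11 : t * ι v * ι x = t * 1 * ι x := by rw [h9, mul_one]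
      exact mul_left_cancel (mul_right_cancel h11)
    exact F.ιne (F.ne1 hv) h10

/-- the elements `t y_u` -/
theorem zsq (F : Fam ι t z y) {u : X} (hu : u ∈ Cl z) : t * y u * (t * y u) = ι u := by
  calc t * y u * (t * y u) = (t * y u * t) * y u := by group
    _ = y u * (ι u * y u) := by rw [F.tyt hu]; group
    _ = (y u * y u) * ι u := by rw [F.ycomm hu rfl]; group
    _ = ι u := by rw [F.ysq u hu, one_mul]

theorem zinv (F : Fam ι t z y) {u : X} (hu : u ∈ Cl z) : (t * y u)⁻¹ = y u * t := by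
  rw [mul_inv_rev, F.yinv hu, F.tinv]

/-- phantom: the `t y_u` commute -/
theorem zcomm (F : Fam ι t z y) {u v : X} (hu : u ∈ Cl z) (hv : v ∈ Cl z)
    (h : y u * y v * (y u * y v) = ι (u * v)) : t * y u * (t * y v) = t * y v * (t * y u) := by
  have h1 : y u * y v = ι (u * v) * (y v * y u) := by
    have h6 : (y u * y v)⁻¹ = y v * y u := by rw [mul_inv_rev, F.yinv hu, F.yinv hv]
    rw [← h6]
    exact eq_mul_inv_of_mul_eq h
  calc t * y u * (t * y v) = (t * y u * t) * y v := by group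
    _ = (y u * ι u) * y v := by rw [F.tyt hu]
    _ = ι u * (y u * y v) := by rw [← F.ycomm hu (k := u) rfl]; group
    _ = ι u * (ι (u * v) * (y v * y u)) := by rw [h1]
    _ = ι (u * (u * v)) * (y v * y u) := by rw [map_mul ι u (u * v)]; group
    _ = ι v * (y v * y u) := by rw [← mul_assoc u u v, F.sq hu, one_mul]
    _ = (y v * ι v) * y u := by rw [← F.ycomm hv (k := v) rfl]; group
    _ = (t * y v * t) * y u := by rw [F.tyt hv]
    _ = t * y v * (t * y u) := by group

/-- phantom: `(t y_u)(t y_v)(t y_{uv}) = 1` -/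
theorem zprod (F : Fam ι t z y) {u v : X} (hu : u ∈ Cl z) (hv : v ∈ Cl z) (hw : u * v ∈ Cl z)
    (huv : u * v = v * u)
    (dc : ∀ x, (∀ c, c * u = u * c → c * v = v * c → x * c = c * x) →
      x = 1 ∨ x = u ∨ x = v ∨ x = u * v)
    (rot : ∃ k, k * u * k⁻¹ = v ∧ k * v * k⁻¹ = u * v)
    (c1 : t * y u * (t * y v) = t * y v * (t * y u))
    (c2 : t * y u * (t * y (u * v)) = t * y (u * v) * (t * y u))
    (c3 : t * y v * (t * y (u * v)) = t * y (u * v) * (t * y v)) :
    t * y u * (t * y v) * (t * y (u * v)) = 1 := by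
  have hu2 := F.sq hu
  have hv2 := F.sq hv
  set a := t * y u with ha
  set b := t * y v with hb
  set c := t * y (u * v) with hc
  have sa : a * a = ι u := F.zsq hu
  have sb : b * b = ι v := F.zsq hv
  have sc : c * c = ι (u * v) := F.zsq hw
  have gsq : a * b * c * (a * b * c) = 1 := by
    calc a * b * c * (a * b * c) = a * b * (c * a) * b * c := by group
      _ = a * (b * a) * c * b * c := by rw [← c2]; group
      _ = a * a * b * (c * b) * c := by rw [← c1]; group
      _ = a * a * (b * b) * (c * c) := by rw [← c3]; group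
      _ = 1 := by
        rw [sa, sb, sc, ← map_mul, ← map_mul, show u * v * (u * v) = u * (v * u) * v by group, ← huv,
          show u * (u * v) * v = (u * u) * (v * v) by group, hu2, hv2, one_mul, map_one]
  have tct : ∀ {u : X}, u ∈ Cl z → t * (t * y u) * t = (t * y u)⁻¹ := by
    intro u hu
    rw [F.zinv hu, ← mul_assoc, F.tt, one_mul]
  have ginv : t * (a * b * c) * t = (a * b * c)⁻¹ := by
    have e : t * (a * b * c) * t = (t * a * t) * (t * b * t) * (t * c * t) := by
      calc t * (a * b * c) * t = t * a * 1 * b * 1 * c * t := by group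
        _ = t * a * (t * t) * b * (t * t) * c * t := by rw [F.tt]
        _ = _ := by group
    have ta : t * a * t = a⁻¹ := tct hu
    have tb : t * b * t = b⁻¹ := tct hv
    have tc : t * c * t = c⁻¹ := tct hw
    rw [e, ta, tb, tc]
    -- `a⁻¹ b⁻¹ c⁻¹ = c⁻¹ b⁻¹ a⁻¹`
    have i1 : a⁻¹ * b⁻¹ = b⁻¹ * a⁻¹ := by rw [← mul_inv_rev, ← mul_inv_rev, c1]
    have i2 : a⁻¹ * c⁻¹ = c⁻¹ * a⁻¹ := by rw [← mul_inv_rev, ← mul_inv_rev, c2]
    have i3 : b⁻¹ * c⁻¹ = c⁻¹ * b⁻¹ := by rw [← mul_inv_rev, ← mul_inv_rev, c3]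
    calc a⁻¹ * b⁻¹ * c⁻¹ = b⁻¹ * (a⁻¹ * c⁻¹) := by rw [i1]; group
      _ = (b⁻¹ * c⁻¹) * a⁻¹ := by rw [i2]; group
      _ = (c⁻¹ * b⁻¹) * a⁻¹ := by rw [i3]
      _ = (a * b * c)⁻¹ := by group
  have ginv' : (a * b * c)⁻¹ = a * b * c := inv_eq_of_mul_eq_one_left gsq
  have gt : a * b * c * t = t * (a * b * c) := by
    rw [ginv'] at ginv
    calc a * b * c * t = t * t * (a * b * c * t) := by rw [F.tt, one_mul]
      _ = t * (t * (a * b * c) * t) := by group
      _ = t * (a * b * c) := by rw [ginv]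
  obtain ⟨x, hx, hxc, hxf⟩ := F.spl' gt
  have zc : ∀ {u k : X}, u ∈ Cl z → k * u = u * k → (t * y u) * ι k = ι k * (t * y u) := by
    intro u k hu hk
    calc t * y u * ι k = t * (y u * ι k) := by group
      _ = t * ι k * y u := by rw [← F.ycomm hu hk]; group
      _ = ι k * (t * y u) := by rw [← F.ct]; group
  have hxx := dc x (fun k hku hkv => hxc k (by
    have a1 : a * ι k = ι k * a := zc hu hku
    have a2 : b * ι k = ι k * b := zc hv hkv
    have a3 : c * ι k = ι k * c := zc hw (by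
      calc k * (u * v) = (k * u) * v := by group
        _ = u * (k * v) := by rw [hku]; group
        _ = u * v * k := by rw [hkv]; group)
    calc a * b * c * ι k = a * b * (c * ι k) := by group
      _ = a * (b * ι k) * c := by rw [a3]; group
      _ = (a * ι k) * b * c := by rw [a2]; group
      _ = ι k * (a * b * c) := by rw [a1]; group))
  obtain ⟨k, hk1, hk2⟩ := rot
  have hk3 : k * (u * v) * k⁻¹ = u := by
    calc k * (u * v) * k⁻¹ = (k * u * k⁻¹) * (k * v * k⁻¹) := by group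
      _ = v * (u * v) := by rw [hk1, hk2]
      _ = u := by rw [huv, ← mul_assoc, hv2, one_mul]
  have zk : ∀ {u : X}, u ∈ Cl z → ι k * (t * y u) * (ι k)⁻¹ = t * y (k * u * k⁻¹) := by
    intro u hu
    rw [F.yeq u hu]
    calc ι k * (t * y u) * (ι k)⁻¹ = (ι k * t) * y u * (ι k)⁻¹ := by group
      _ = t * (ι k * y u * (ι k)⁻¹) := by rw [F.ct]; group
  have hkg : ι k * (a * b * c) * (ι k)⁻¹ = a * b * c := by
    have e1 : ι k * a * (ι k)⁻¹ = b := by rw [ha, zk hu, hk1]
    have e2 : ι k * b * (ι k)⁻¹ = c := by rw [hb, zk hv, hk2]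
    have e3 : ι k * c * (ι k)⁻¹ = a := by rw [hc, zk hw, hk3]
    calc ι k * (a * b * c) * (ι k)⁻¹ = (ι k * a * (ι k)⁻¹) * (ι k * b * (ι k)⁻¹) *
          (ι k * c * (ι k)⁻¹) := by group
      _ = b * (c * a) := by rw [e1, e2, e3, mul_assoc]
      _ = (b * a) * c := by rw [← c2]; group
      _ = a * b * c := by rw [← c1]
  have hkx := hxf k hkg
  have hx1 : x = 1 := by
    have hne : u ≠ 1 := F.ne1 hu
    have hne' : v ≠ 1 := F.ne1 hv
    rcases hxx with h | h | h | h
    · exact h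
    · rw [h, hk1] at hkx
      exfalso
      have : u * v ≠ 1 := F.ne1 hw
      apply this
      rw [hkx, hu2]
    · rw [h, hk2] at hkx
      exact absurd (mul_eq_right.1 hkx) hne
    · rw [h, hk3] at hkx
      exact absurd (mul_eq_left.1 hkx.symm) hne'
  rw [hx1, map_one, mul_one] at hx
  rcases hx with hx | hx
  · exact hx
  · exfalso
    -- `t` would commute with `t y_u`
    have h1 : a * b * c * a = a * (a * b * c) := by
      calc a * b * c * a = a * b * (c * a) := by group
        _ = a * (b * a) * c := by rw [← c2]; group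
        _ = a * (a * b * c) := by rw [← c1]; group
    rw [hx, ha] at h1
    have h2 : y u * t = t * y u := by
      calc y u * t = t * t * (y u * t) := by rw [F.tt, one_mul]
        _ = t * (t * y u * t) := by group
        _ = t * (t * (t * y u)) := by rw [← h1]
        _ = (t * t) * (t * y u) := by group
        _ = t * y u := by rw [F.tt, one_mul]
    exact F.y_not_comm hu h2

/-- **Step 2**: the involutions `y_u`, `u ∈ E - 1`, commute -/
theorem comm (F : Fam ι t z y) {E : Subgroup X} (hE : FactsE z E) {u v : X} (hu : u ∈ E) (hv : v ∈ E)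
    (hu1 : u ≠ 1) (hv1 : v ≠ 1) : y u * y v = y v * y u := by
  by_cases huv1 : u = v
  · rw [huv1]
  have hsq : ∀ e ∈ E, e * e = 1 := by
    intro e he
    by_cases h1 : e = 1
    · rw [h1, one_mul]
    · exact F.sq (hE.EC e he h1)
  have hcomm : ∀ e ∈ E, ∀ f ∈ E, e * f = f * e := by
    intro e he f hf
    have h1 := hsq _ (E.mul_mem he hf)
    calc e * f = e * (e * f * (e * f)) * f := by rw [h1, mul_one]
      _ = (e * e) * (f * e) * (f * f) := by group
      _ = f * e := by rw [hsq e he, hsq f hf, one_mul, mul_one]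
  by_contra hno
  -- all pairs are phantoms
  have hph : ∀ a ∈ E, ∀ b ∈ E, a ≠ 1 → b ≠ 1 → a ≠ b → y a * y b * (y a * y b) = ι (a * b) := by
    intro a ha b hb ha1 hb1 hab
    rcases F.comm_or (hE.EC a ha ha1) (hE.EC b hb hb1) (hcomm a ha b hb) hab
      (hE.dc a ha b hb ha1 hb1 hab) (hE.swap a ha b hb ha1 hb1 hab) with h | h
    · exfalso
      apply hno
      obtain ⟨k, hk1, hk2⟩ := hE.two a ha b hb u hu v hv ha1 hb1 hab hu1 hv1 huv1
      rw [← hk1, ← hk2, F.yeq a (hE.EC a ha ha1), F.yeq b (hE.EC b hb hb1)]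
      calc ι k * y a * (ι k)⁻¹ * (ι k * y b * (ι k)⁻¹) = ι k * (y a * y b) * (ι k)⁻¹ := by group
        _ = ι k * (y b * y a) * (ι k)⁻¹ := by rw [h]
        _ = ι k * y b * (ι k)⁻¹ * (ι k * y a * (ι k)⁻¹) := by group
    · exact h
  have hne : ∀ a ∈ E, ∀ b ∈ E, a ≠ b → a * b ≠ 1 := by
    intro a _ b hb hab h
    apply hab
    calc a = a * (b * b) := by rw [hsq b hb, mul_one]
      _ = (a * b) * b := by group
      _ = b := by rw [h, one_mul]
  -- products
  have hzc : ∀ a ∈ E, ∀ b ∈ E, a ≠ 1 → b ≠ 1 → t * y a * (t * y b) = t * y b * (t * y a) := by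
    intro a ha b hb ha1 hb1
    by_cases hab : a = b
    · rw [hab]
    · exact F.zcomm (hE.EC a ha ha1) (hE.EC b hb hb1) (hph a ha b hb ha1 hb1 hab)
  have hzp : ∀ a ∈ E, ∀ b ∈ E, a ≠ 1 → b ≠ 1 → a ≠ b →
      t * y a * (t * y b) * (t * y (a * b)) = 1 := by
    intro a ha b hb ha1 hb1 hab
    have hab1 := hne a ha b hb hab
    have habE := E.mul_mem ha hb
    exact F.zprod (hE.EC a ha ha1) (hE.EC b hb hb1) (hE.EC _ habE hab1) (hcomm a ha b hb)
      (hE.dc a ha b hb ha1 hb1 hab) (hE.rot a ha b hb ha1 hb1 hab) (hzc a ha b hb ha1 hb1)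
      (hzc a ha _ habE ha1 hab1) (hzc b hb _ habE hb1 hab1)
  -- a third element
  obtain ⟨w, hw, hw1, hwu, hwv, hwuv⟩ : ∃ w ∈ E, w ≠ 1 ∧ w ≠ u ∧ w ≠ v ∧ w ≠ u * v := by
    classical
    by_contra hcon
    push Not at hcon
    have h1 : (E : Set X) ⊆ (({1, u, v, u * v} : Finset X) : Set X) := by
      intro w hw
      by_cases a1 : w = 1
      · simp [a1]
      by_cases a2 : w = u
      · simp [a2]
      by_cases a3 : w = v
      · simp [a3]
      simp [hcon w hw a1 a2 a3]
    have h2 := Set.ncard_le_ncard h1 (Finset.finite_toSet _)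
    rw [Set.ncard_coe_finset] at h2
    have h3 : ({1, u, v, u * v} : Finset X).card ≤ 4 := Finset.card_le_four
    have h4 : (E : Set X).ncard = 16 := by
      rw [← hE.card]; rfl
    omega
  have huv' := hne u hu v hv huv1
  have p1 := hzp u hu v hv hu1 hv1 huv1
  have p2 := hzp v hv w hw hv1 hw1 (Ne.symm hwv)
  have p3 := hzp (u * v) (E.mul_mem hu hv) w hw huv' hw1 (Ne.symm hwuv)
  have p4 := hzp u hu (v * w) (E.mul_mem hv hw) hu1 (hne v hv w hw (Ne.symm hwv)) (by
    intro h
    apply hwuv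
    rw [h]
    calc w = (v * v) * w := by rw [hsq v hv, one_mul]
      _ = v * (v * w) := by group
      _ = v * w * v := hcomm v hv _ (E.mul_mem hv hw))
  rw [mul_assoc u v w] at p3
  set A := t * y u
  set B := t * y v
  set C := t * y w
  set AB := t * y (u * v)
  set BC := t * y (v * w)
  set ABC := t * y (u * (v * w))
  have q1 : AB = (A * B)⁻¹ := (inv_eq_of_mul_eq_one_right p1).symm
  have q2 : BC = (B * C)⁻¹ := (inv_eq_of_mul_eq_one_right p2).symm
  have q3 : AB * C = A * BC := mul_right_cancel (p3.trans p4.symm)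
  have hAB : A * B = B * A := hzc u hu v hv hu1 hv1
  have hAC : A * C = C * A := hzc u hu w hw hu1 hw1
  have hBC : B * C = C * B := hzc v hv w hw hv1 hw1
  rw [q1, q2] at q3
  have q4 : C * (B * C) = A * B * A := by
    have h1 : C = A * B * (A * (B * C)⁻¹) := by rw [← q3]; group
    calc C * (B * C) = A * B * (A * (B * C)⁻¹) * (B * C) := by rw [← h1]
      _ = A * B * A := by group
  have q5 : B * (C * C) = B * (A * A) := by
    calc B * (C * C) = (B * C) * C := by group
      _ = (C * B) * C := by rw [hBC]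
      _ = C * (B * C) := mul_assoc _ _ _
      _ = A * B * A := q4
      _ = B * (A * A) := by rw [hAB]; group
  have q6 := mul_left_cancel q5
  rw [F.zsq (hE.EC w hw hw1), F.zsq (hE.EC u hu hu1)] at q6
  exact hwu (F.inj q6)

end Fam

end Cfsg.Agent.OddHalf.M24

end

-- merged: Cfsg.Agent.OddHalf.M24.Star
section

/-!
# ODD half, D8, `K = M24`: the doubled group `E* = ⟨E, y_u : u ∈ E - 1⟩` (helper785)

`Star ι y E`; elementary abelian (`Good.starComm`, `Good.starSq`), its elements are `e` and `y_v e`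
(`Good.form`), and it is the only elementary abelian group `M` normalised by `t` with `C_M(t) = E` whose elements …
(`Good.uniq`).
-/

set_option autoImplicit false

namespace Cfsg.Agent.OddHalf.M24

open Subgroup

variable {X G : Type*} [Group X] [Group G] {ι : X →* G} {t : G} {z : X} {y : X → G}

/-- `E* = ⟨E, y_u⟩` -/
def Star (ι : X →* G) (y : X → G) (E : Subgroup X) : Subgroup G :=
  closure ({g | ∃ e ∈ E, g = ι e} ∪ {g | ∃ e ∈ E, e ≠ 1 ∧ g = y e})

/-- `E - 1 ⊆ C`, the `y_u` commute, `C(E) ≤ E` -/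
structure Good (z : X) (y : X → G) (E : Subgroup X) : Prop where
  EC : ∀ e ∈ E, e ≠ 1 → e ∈ Cl z
  com : ∀ u ∈ E, ∀ v ∈ E, u ≠ 1 → v ≠ 1 → y u * y v = y v * y u
  cen : ∀ x, (∀ e ∈ E, x * e = e * x) → x ∈ E
  ne : ∃ u ∈ E, u ≠ 1

theorem closure_comm {A : Set G} (h : ∀ a ∈ A, ∀ b ∈ A, a * b = b * a) :
    ∀ m ∈ closure A, ∀ n ∈ closure A, m * n = n * m := by
  have h1 : closure A ≤ centralizer A := by
    rw [closure_le]
    intro a ha
    exact mem_centralizer_iff.2 fun b hb => h b hb a ha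
  have h2 : closure A ≤ centralizer (closure A : Set G) := by
    rw [closure_le]
    intro a ha
    exact mem_centralizer_iff.2 fun n hn => ((mem_centralizer_iff.1 (h1 hn)) a ha).symm
  intro m hm n hn
  exact ((mem_centralizer_iff.1 (h2 hm)) n hn).symm

theorem ι_mem_star {E : Subgroup X} {e : X} (he : e ∈ E) : ι e ∈ Star ι y E :=
  subset_closure (Or.inl ⟨e, he, rfl⟩)

theorem y_mem_star {E : Subgroup X} {e : X} (he : e ∈ E) (h1 : e ≠ 1) : y e ∈ Star ι y E :=
  subset_closure (Or.inr ⟨e, he, h1, rfl⟩)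

namespace Good

variable {E : Subgroup X}

theorem sq (hE : Good z y E) (F : Fam ι t z y) {e : X} (he : e ∈ E) : e * e = 1 := by
  by_cases h1 : e = 1
  · rw [h1, one_mul]
  · exact F.sq (hE.EC e he h1)

theorem comm (hE : Good z y E) (F : Fam ι t z y) {e f : X} (he : e ∈ E) (hf : f ∈ E) : e * f = f * e := by
  have h1 := hE.sq F (E.mul_mem he hf)
  calc e * f = e * (e * f * (e * f)) * f := by rw [h1, mul_one]
    _ = (e * e) * (f * e) * (f * f) := by group
    _ = f * e := by rw [hE.sq F he, hE.sq F hf, one_mul, mul_one]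

theorem starComm (hE : Good z y E) (F : Fam ι t z y) :
    ∀ m ∈ Star ι y E, ∀ n ∈ Star ι y E, m * n = n * m := by
  apply closure_comm
  rintro _ (⟨e, he, rfl⟩ | ⟨e, he, he1, rfl⟩) _ (⟨f, hf, rfl⟩ | ⟨f, hf, hf1, rfl⟩)
  · rw [← map_mul, ← map_mul, hE.comm F he hf]
  · exact F.ycomm (hE.EC f hf hf1) (hE.comm F he hf)
  · exact (F.ycomm (hE.EC e he he1) (hE.comm F hf he)).symm
  · exact hE.com e he f hf he1 hf1

theorem starSq (hE : Good z y E) (F : Fam ι t z y) : ∀ m ∈ Star ι y E, m * m = 1 := by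
  intro m hm
  induction hm using closure_induction with
  | mem x hx =>
    rcases hx with ⟨e, he, rfl⟩ | ⟨e, he, he1, rfl⟩
    · rw [← map_mul, hE.sq F he, map_one]
    · exact F.ysq e (hE.EC e he he1)
  | one => exact one_mul 1
  | mul a b ha hb iha ihb =>
    have h1 := hE.starComm F a ha b hb
    calc a * b * (a * b) = a * (b * a) * b := by group
      _ = a * a * (b * b) := by rw [← h1]; group
      _ = 1 := by rw [iha, ihb, one_mul]
  | inv a _ iha =>
    rw [← mul_inv_rev, iha, inv_one]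

/-- the action on `t` -/
theorem starAc (hE : Good z y E) (F : Fam ι t z y) : ∀ m ∈ Star ι y E, ∃ v ∈ E, Ac ι t m v := by
  intro m hm
  induction hm using closure_induction with
  | mem x hx =>
    rcases hx with ⟨e, he, rfl⟩ | ⟨e, he, he1, rfl⟩
    · exact ⟨1, E.one_mem, F.ac e⟩
    · exact ⟨e, he, F.yac (hE.EC e he he1)⟩
  | one => exact ⟨1, E.one_mem, by rw [Ac.one_iff, one_mul, mul_one]⟩
  | mul a b ha hb iha ihb =>
    obtain ⟨v, hv, h1⟩ := iha
    obtain ⟨w, hw, h2⟩ := ihb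
    exact ⟨v * w, E.mul_mem hv hw, h1.mul h2 (hE.starComm F a ha _ (ι_mem_star hw))⟩
  | inv a ha iha =>
    obtain ⟨v, hv, h1⟩ := iha
    refine ⟨v, hv, ?_⟩
    have h2 : a⁻¹ = a := inv_eq_of_mul_eq_one_left (hE.starSq F a ha)
    rwa [h2]

/-- an element of `E*` commuting with `t` lies in `E` -/
theorem star_cen (hE : Good z y E) (F : Fam ι t z y) {m : G} (hm : m ∈ Star ι y E)
    (hmt : m * t = t * m) : ∃ e ∈ E, m = ι e := by
  obtain ⟨x, hx, hxc, -⟩ := F.spl' hmt
  have hxE : x ∈ E := hE.cen x fun e he => hxc e (hE.starComm F m hm _ (ι_mem_star he))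
  rcases hx with hx | hx
  · exact ⟨x, hxE, hx⟩
  · exfalso
    have h1 : t ∈ Star ι y E := by
      have h2 := (Star ι y E).mul_mem hm (ι_mem_star (ι := ι) (y := y) (E.inv_mem hxE))
      rwa [hx, map_inv, mul_inv_cancel_right] at h2
    obtain ⟨u, hu, hu1⟩ := hE.ne
    exact F.y_not_comm (hE.EC u hu hu1) (hE.starComm F _ (y_mem_star hu hu1) _ h1)

/-- the elements of `E*` -/
theorem form (hE : Good z y E) (F : Fam ι t z y) {m : G} (hm : m ∈ Star ι y E) {v : X} (hv : v ∈ E)
    (h : Ac ι t m v) : (v = 1 ∧ ∃ e ∈ E, m = ι e) ∨ (v ≠ 1 ∧ ∃ e ∈ E, m = y v * ι e) := by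
  by_cases hv1 : v = 1
  · left
    refine ⟨hv1, ?_⟩
    subst hv1
    exact hE.star_cen F hm (Ac.one_iff.1 h)
  · right
    refine ⟨hv1, ?_⟩
    have hvC := hE.EC v hv hv1
    have hyS : y v ∈ Star ι y E := y_mem_star hv hv1
    have h1 : Ac ι t (y v * m) (v * v) :=
      (F.yac hvC).mul h (hE.starComm F _ hyS _ (ι_mem_star hv))
    rw [hE.sq F hv] at h1
    obtain ⟨e, he, h2⟩ := hE.star_cen F ((Star ι y E).mul_mem hyS hm) (Ac.one_iff.1 h1)
    refine ⟨e, he, ?_⟩
    rw [← h2, ← mul_assoc, F.ysq v hvC, one_mul]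

/-- `E*` is normalised by `t` -/
theorem star_t (hE : Good z y E) (F : Fam ι t z y) {m : G} (hm : m ∈ Star ι y E) :
    t * m * t ∈ Star ι y E := by
  obtain ⟨v, hv, h⟩ := hE.starAc F m hm
  unfold Ac at h
  have h1 : m * t = t * ι v * m := mul_inv_eq_iff_eq_mul.1 h
  have h2 : t * m * t = ι v * m := by
    calc t * m * t = t * (m * t) := by group
      _ = (t * t) * (ι v * m) := by rw [h1]; group
      _ = ι v * m := by rw [F.tt, one_mul]
  rw [h2]
  exact (Star ι y E).mul_mem (ι_mem_star hv) hm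

/-- the normaliser of `E` normalises `E*` -/
theorem star_conj (hE : Good z y E) (F : Fam ι t z y) {k : X} (hk : ∀ e ∈ E, k * e * k⁻¹ ∈ E) {m : G}
    (hm : m ∈ Star ι y E) : ι k * m * (ι k)⁻¹ ∈ Star ι y E := by
  induction hm using closure_induction with
  | mem x hx =>
    rcases hx with ⟨e, he, rfl⟩ | ⟨e, he, he1, rfl⟩
    · rw [← map_inv, ← map_mul, ← map_mul]
      exact ι_mem_star (hk e he)
    · rw [← F.yeq e (hE.EC e he he1)]
      exact y_mem_star (hk e he) fun h1 => he1 (by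
        rw [mul_inv_eq_one] at h1
        exact mul_eq_left.1 h1)
  | one => rw [mul_one, mul_inv_cancel]; exact one_mem _
  | mul a b _ _ iha ihb =>
    have := (Star ι y E).mul_mem iha ihb
    have e : ι k * a * (ι k)⁻¹ * (ι k * b * (ι k)⁻¹) = ι k * (a * b) * (ι k)⁻¹ := by group
    rwa [e] at this
  | inv a _ iha =>
    have := (Star ι y E).inv_mem iha
    have e : (ι k * a * (ι k)⁻¹)⁻¹ = ι k * a⁻¹ * (ι k)⁻¹ := by group
    rwa [e] at this

/-- **uniqueness** of `E*` -/
theorem uniq (hE : Good z y E) (F : Fam ι t z y) {M : Subgroup G} (hsq : ∀ m ∈ M, m * m = 1)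
    (ht : ∀ m ∈ M, t * m * t ∈ M) (hc : ∀ m ∈ M, m * t = t * m → ∃ e ∈ E, m = ι e)
    (hEM : ∀ e ∈ E, ι e ∈ M) : M ≤ Star ι y E := by
  have hinv : ∀ m ∈ M, m⁻¹ = m := fun m hm => inv_eq_of_mul_eq_one_left (hsq m hm)
  have hcomm : ∀ m ∈ M, ∀ n ∈ M, m * n = n * m := by
    intro m hm n hn
    have h1 := hinv _ (M.mul_mem hm hn)
    rw [mul_inv_rev, hinv m hm, hinv n hn] at h1
    exact h1.symm
  intro m hm
  -- `[m, t] ∈ C_M(t)`
  have h1 : m * (t * m * t) ∈ M := M.mul_mem hm (ht m hm)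
  have h2 : m * (t * m * t) * t = t * (m * (t * m * t)) := by
    have h3 := hinv _ h1
    have h4 : (m * (t * m * t))⁻¹ = t * m * t * m := by
      rw [mul_inv_rev, mul_inv_rev, mul_inv_rev, F.tinv, hinv m hm]
      group
    rw [h4] at h3
    calc m * (t * m * t) * t = m * t * m * (t * t) := by group
      _ = (t * t) * (m * t * m) := by rw [F.tt, mul_one, one_mul]
      _ = t * (t * m * t * m) := by group
      _ = t * (m * (t * m * t)) := by rw [h3]
  obtain ⟨v, hv, h3⟩ := hc _ h1 h2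
  have hac : Ac ι t m v := by
    unfold Ac
    rw [hinv m hm]
    calc m * t * m = (m * (t * m * t)) * t := by
          calc m * t * m = m * t * m * (t * t) := by rw [F.tt, mul_one]
            _ = _ := by group
      _ = t * (m * (t * m * t)) := h2
      _ = t * ι v := by rw [h3]
  by_cases hv1 : v = 1
  · subst hv1
    obtain ⟨e, he, h4⟩ := hc m hm (Ac.one_iff.1 hac)
    rw [h4]
    exact ι_mem_star he
  · have hvC := hE.EC v hv hv1
    have h5 : Ac ι t (m * y v) (v * v) := hac.mul (F.yac hvC) (hcomm m hm _ (hEM v hv))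
    rw [hE.sq F hv] at h5
    obtain ⟨x, hx, hxc, -⟩ := F.spl' (Ac.one_iff.1 h5)
    have hxE : x ∈ E := hE.cen x fun e he => hxc e (by
      calc m * y v * ι e = m * (y v * ι e) := by group
        _ = m * ι e * y v := by rw [← F.ycomm hvC (hE.comm F he hv)]; group
        _ = ι e * (m * y v) := by rw [hcomm m hm _ (hEM e he)]; group)
    have hmul : m * y v * y v = m := by rw [mul_assoc, F.ysq v hvC, mul_one]
    rcases hx with hx | hx
    · have h6 : m = ι x * y v := by rw [← hx, hmul]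
      rw [h6]
      exact (Star ι y E).mul_mem (ι_mem_star hxE) (y_mem_star hv hv1)
    · exfalso
      have h6 : m = t * ι x * y v := by rw [← hx, hmul]
      have h7 : ι x * y v = y v * ι x := F.ycomm hvC (hE.comm F hxE hv)
      have h8 : m * m = ι v := by
        have hxx : ι x * ι x = 1 := by rw [← map_mul, hE.sq F hxE, map_one]
        calc m * m = t * (ι x * y v) * t * (ι x * y v) := by rw [h6]; group
          _ = t * y v * (ι x * t) * (ι x * y v) := by rw [h7]; group
          _ = t * y v * t * (ι x * ι x) * y v := by rw [F.ct]; group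
          _ = y v * ι v * y v := by rw [hxx, mul_one, F.tyt hvC]
          _ = y v * y v * ι v := by rw [mul_assoc, F.ycomm hvC rfl]; group
          _ = ι v := by rw [F.ysq v hvC, one_mul]
      rw [hsq m hm] at h8
      exact F.ιne hv1 h8.symm

end Good

/-- `E` satisfying `FactsE` is good -/
theorem FactsE.good {E : Subgroup X} (hE : FactsE z E) (F : Fam ι t z y) : Good z y E where
  EC := hE.EC
  com := fun _ hu _ hv hu1 hv1 => F.comm hE hu hv hu1 hv1
  cen := hE.cen
  ne := by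
    by_contra hcon
    push Not at hcon
    have h1 : E = ⊥ := by
      rw [eq_bot_iff]
      exact fun e he => mem_bot.2 (hcon e he)
    have h2 := hE.card
    rw [h1, card_bot] at h2
    omega

/-- conjugates of good groups are good -/
theorem Good.conj {E E' : Subgroup X} (hE : Good z y E) (F : Fam ι t z y) {k : X}
    (hk : ∀ x, x ∈ E' ↔ k * x * k⁻¹ ∈ E) : Good z y E' where
  EC := by
    intro e he he1
    have h1 := hE.EC _ ((hk e).1 he) (fun h => he1 (by
      rw [mul_inv_eq_one] at h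
      exact mul_eq_left.1 h))
    have h2 := Cl_conj h1 k⁻¹
    have e : k⁻¹ * (k * e * k⁻¹) * k⁻¹⁻¹ = e := by group
    rwa [e] at h2
  com := by
    intro u hu v hv hu1 hv1
    have hu2 : k * u * k⁻¹ ≠ 1 := fun h => hu1 (by
      rw [mul_inv_eq_one] at h
      exact mul_eq_left.1 h)
    have hv2 : k * v * k⁻¹ ≠ 1 := fun h => hv1 (by
      rw [mul_inv_eq_one] at h
      exact mul_eq_left.1 h)
    have h1 := hE.com _ ((hk u).1 hu) _ ((hk v).1 hv) hu2 hv2
    have e1 : ∀ {u : X}, k * u * k⁻¹ ∈ Cl z → y (k * u * k⁻¹) = ι k * y u * (ι k)⁻¹ := by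
      intro u hu
      have h2 := Cl_conj hu k⁻¹
      have e : k⁻¹ * (k * u * k⁻¹) * k⁻¹⁻¹ = u := by group
      rw [e] at h2
      exact F.yeq u h2 k
    rw [e1 (hE.EC _ ((hk u).1 hu) hu2), e1 (hE.EC _ ((hk v).1 hv) hv2)] at h1
    have h3 : ι k * (y u * y v) * (ι k)⁻¹ = ι k * (y v * y u) * (ι k)⁻¹ := by
      calc ι k * (y u * y v) * (ι k)⁻¹ = ι k * y u * (ι k)⁻¹ * (ι k * y v * (ι k)⁻¹) := by group
        _ = ι k * y v * (ι k)⁻¹ * (ι k * y u * (ι k)⁻¹) := h1
        _ = _ := by group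
    exact mul_left_cancel (mul_right_cancel h3)
  cen := by
    intro x hx
    rw [hk]
    apply hE.cen
    intro e he
    have h1 := hx (k⁻¹ * e * k) ((hk _).2 (by
      have e1 : k * (k⁻¹ * e * k) * k⁻¹ = e := by group
      rwa [e1]))
    calc k * x * k⁻¹ * e = k * (x * (k⁻¹ * e * k)) * k⁻¹ := by group
      _ = k * (k⁻¹ * e * k * x) * k⁻¹ := by rw [h1]
      _ = e * (k * x * k⁻¹) := by group
  ne := by
    obtain ⟨u, hu, hu1⟩ := hE.ne
    refine ⟨k⁻¹ * u * k, (hk _).2 (by
      have e1 : k * (k⁻¹ * u * k) * k⁻¹ = u := by group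
      rwa [e1]), fun h => hu1 ?_⟩
    calc u = k * (k⁻¹ * u * k) * k⁻¹ := by group
      _ = 1 := by rw [h]; group

end Cfsg.Agent.OddHalf.M24

end

-- merged: Cfsg.Agent.OddHalf.M24.Trans
section

/-!
# ODD half, D8, `K = M24`: Step 3 (helper785) and Step 3' (helper508)

`Good.tv_conj`: for a transvection `w` on `E` the involution `y_w` normalises `E*`.
`Good.rs_conj`: for commuting transvections `r, s` with `r s ∈ C` and `C(C(r, s)) ≤ N(E)`, `y_{rs}` normalises `E*`.
-/

set_option autoImplicit false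

namespace Cfsg.Agent.OddHalf.M24

open Subgroup

variable {X G : Type*} [Group X] [Group G] {ι : X →* G} {t : G} {z : X} {y : X → G}

namespace Good

variable {E : Subgroup X}

section

variable (F : Fam ι t z y) {w : X}

/-- `t w` is an involution -/
theorem _root_.Cfsg.Agent.OddHalf.M24.Fam.dd (F : Fam ι t z y) {w : X} (hw : w ∈ Cl z) :
    t * ι w * (t * ι w) = 1 := by
  calc t * ι w * (t * ι w) = t * (ι w * t) * ι w := by group
    _ = t * t * (ι w * ι w) := by rw [F.ct]; group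
    _ = 1 := by rw [F.tt, F.ιsq hw, one_mul]

theorem _root_.Cfsg.Agent.OddHalf.M24.Fam.WtW (F : Fam ι t z y) {w : X} (hw : w ∈ Cl z) :
    y w * t * y w = t * ι w := by
  have := F.yt w hw
  rwa [F.yinv hw] at this

theorem _root_.Cfsg.Agent.OddHalf.M24.Fam.WdW (F : Fam ι t z y) {w : X} (hw : w ∈ Cl z) :
    y w * (t * ι w) * y w = t := by
  rw [← F.WtW hw]
  calc y w * (y w * t * y w) * y w = (y w * y w) * t * (y w * y w) := by group
    _ = t := by rw [F.ysq w hw, one_mul, mul_one]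

end

/-- `t w` normalises `E*` -/
theorem d_conj (hE : Good z y E) (F : Fam ι t z y) {w : X} (hw : w ∈ Cl z)
    (hn : ∀ e ∈ E, w * e * w⁻¹ ∈ E) {m : G} (hm : m ∈ Star ι y E) :
    t * ι w * m * (t * ι w) ∈ Star ι y E := by
  have h1 := hE.star_t F (hE.star_conj F hn hm)
  have h2 : (ι w)⁻¹ = ι w := inv_eq_of_mul_eq_one_left (F.ιsq hw)
  rw [h2] at h1
  have e : t * (ι w * m * ι w) * t = t * ι w * m * (t * ι w) := by
    calc t * (ι w * m * ι w) * t = t * ι w * m * (ι w * t) := by group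
      _ = t * ι w * m * (t * ι w) := by rw [F.ct]
  rwa [e] at h1

/-- the elements of `E*` commuting with `t w` -/
theorem d_form (hE : Good z y E) (F : Fam ι t z y) {w a : X}
    (hn : ∀ e ∈ E, w * e * w⁻¹ ∈ E) (ha : ∀ e ∈ E, w * e = e * w ∨ w * e * w⁻¹ = e * a) {m : G}
    (hm : m ∈ Star ι y E) (hd : m * (t * ι w) = t * ι w * m) :
    (∃ e ∈ E, w * e = e * w ∧ m = ι e) ∨
      (∃ e ∈ E, w * e * w⁻¹ = e * a ∧ m = y a * ι e ∧ a ∈ E ∧ a ≠ 1) := by
  obtain ⟨v, hv, hac⟩ := hE.starAc F m hm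
  rcases hE.form F hm hv hac with ⟨-, e, he, rfl⟩ | ⟨hv1, e, he, rfl⟩
  · left
    refine ⟨e, he, ?_, rfl⟩
    apply F.inj
    rw [map_mul, map_mul]
    have h1 : t * (ι w * ι e) = t * (ι e * ι w) := by
      calc t * (ι w * ι e) = t * ι w * ι e := by group
        _ = (ι e * t) * ι w := by rw [← hd]; group
        _ = t * (ι e * ι w) := by rw [F.ct]; group
    exact mul_left_cancel h1
  · right
    have hvC := hE.EC v hv hv1
    have hwv : w * v * w⁻¹ ∈ E := hn v hv
    have h1 : t * (y v * ι e) * t = ι w * (y v * ι e) * (ι w)⁻¹ := by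
      have h2 : y v * ι e * t = t * ι w * (y v * ι e) * (ι w)⁻¹ := by
        rw [← hd]; group
      calc t * (y v * ι e) * t = t * (y v * ι e * t) := by group
        _ = (t * t) * (ι w * (y v * ι e) * (ι w)⁻¹) := by rw [h2]; group
        _ = _ := by rw [F.tt, one_mul]
    have h2 : t * (y v * ι e) * t = y v * ι (v * e) := by
      calc t * (y v * ι e) * t = t * y v * (ι e * t) := by group
        _ = (t * y v * t) * ι e := by rw [F.ct]; group
        _ = y v * ι (v * e) := by rw [F.tyt hvC, map_mul]; group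
    have h3 : ι w * (y v * ι e) * (ι w)⁻¹ = y (w * v * w⁻¹) * ι (w * e * w⁻¹) := by
      rw [F.yeq v hvC, map_mul, map_mul, map_inv]
      group
    have h4 : y v * ι (v * e) = y (w * v * w⁻¹) * ι (w * e * w⁻¹) := by rw [← h2, h1, h3]
    have hwv1 : w * v * w⁻¹ ≠ 1 := fun h => hv1 (by
      rw [mul_inv_eq_one] at h
      exact mul_eq_left.1 h)
    have hac1 : Ac ι t (y v * ι (v * e)) (v * 1) :=
      (F.yac hvC).mul (F.ac _) (by rw [map_one, mul_one, one_mul])
    have hac2 : Ac ι t (y v * ι (v * e)) (w * v * w⁻¹ * 1) := by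
      rw [h4]
      exact (F.yac (hE.EC _ hwv hwv1)).mul (F.ac _) (by rw [map_one, mul_one, one_mul])
    have h5 := Ac.inj F.toAmb hac1 hac2
    rw [mul_one, mul_one] at h5
    rw [← h5] at h4
    have h6 : v * e = w * e * w⁻¹ := F.inj (mul_left_cancel h4)
    rcases ha e he with h7 | h7
    · exfalso
      rw [h7, mul_inv_cancel_right] at h6
      exact hv1 (mul_eq_right.1 h6)
    · have h8 : v = a := by
        rw [h7, hE.comm F hv he] at h6
        exact mul_left_cancel h6
      subst h8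
      exact ⟨e, he, h7, rfl, hv, hv1⟩

/-- elements `y_a e` commute with `t w` -/
theorem d_comm (hE : Good z y E) (F : Fam ι t z y) {w a e : X} (haE : a ∈ E) (ha1 : a ≠ 1)
    (hwa : w * a = a * w) (he : e ∈ E) (hwe : w * e * w⁻¹ = e * a) :
    y a * ι e * (t * ι w) = t * ι w * (y a * ι e) := by
  have haC := hE.EC a haE ha1
  have h1 : ι w * y a = y a * ι w := F.ycomm haC hwa
  have h2 : ι w * ι e = ι (e * a) * ι w := by
    rw [← map_mul, ← map_mul, ← hwe, inv_mul_cancel_right]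
  have h3 : t * y a = y a * ι a * t := by
    have h4 : y a * ι a * t = t * y a * (t * t) := by rw [← F.tyt haC]; group
    rw [h4, F.tt, mul_one]
  have h5 : a * (e * a) = e := by
    rw [← mul_assoc, hE.comm F haE he, mul_assoc, hE.sq F haE, mul_one]
  symm
  calc t * ι w * (y a * ι e) = t * (ι w * y a) * ι e := by group
    _ = t * y a * (ι w * ι e) := by rw [h1]; group
    _ = (t * y a) * ι (e * a) * ι w := by rw [h2]; group
    _ = y a * ι a * (t * ι (e * a)) * ι w := by rw [h3]; group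
    _ = y a * (ι a * ι (e * a)) * (t * ι w) := by rw [← F.ct]; group
    _ = y a * ι e * (t * ι w) := by rw [← map_mul, h5]

/-- `m'' = y_a e₁ ∈ [E*, t w]` -/
theorem exists_comm (hE : Good z y E) (F : Fam ι t z y) {w a : X} (hw : w ∈ Cl z)
    (hn : ∀ e ∈ E, w * e * w⁻¹ ∈ E) (ha : ∀ e ∈ E, w * e = e * w ∨ w * e * w⁻¹ = e * a)
    (haE : a ∈ E) (ha1 : a ≠ 1) {e₁ : X} (he₁ : e₁ ∈ E) (hwe : w * e₁ * w⁻¹ = e₁ * a) :
    ∃ m ∈ Star ι y E, m * (t * ι w * m * (t * ι w)) = y a * ι e₁ := by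
  have hS := hE.starComm F
  have hdd := F.dd hw
  have hwinv : (ι w)⁻¹ = ι w := inv_eq_of_mul_eq_one_left (F.ιsq hw)
  have he1 : e₁ ≠ 1 := by
    rintro rfl
    rw [mul_one, mul_inv_cancel, one_mul] at hwe
    exact ha1 hwe.symm
  have heC := hE.EC e₁ he₁ he1
  have hea : e₁ * a ∈ E := E.mul_mem he₁ haE
  have hea1 : e₁ * a ≠ 1 := by
    rw [← hwe]
    intro h
    rw [mul_inv_eq_one] at h
    exact he1 (mul_eq_left.1 h)
  have heaC := hE.EC _ hea hea1
  have haC := hE.EC a haE ha1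
  -- conjugation of `y v` by `t w`
  have hdy : ∀ {v : X}, v ∈ Cl z → w * v * w⁻¹ ∈ Cl z →
      t * ι w * y v * (t * ι w) = y (w * v * w⁻¹) * ι (w * v * w⁻¹) := by
    intro v hv hv'
    calc t * ι w * y v * (t * ι w) = t * ι w * y v * (ι w * t) := by rw [F.ct]
      _ = t * (ι w * y v * (ι w)⁻¹) * t := by rw [hwinv]; group
      _ = y (w * v * w⁻¹) * ι (w * v * w⁻¹) := by rw [← F.yeq v hv, F.tyt hv']
  set m1 := y e₁ with hm1
  have hm1S : m1 ∈ Star ι y E := y_mem_star he₁ he1
  set n1 := m1 * (t * ι w * m1 * (t * ι w)) with hn1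
  have hdm1 : t * ι w * m1 * (t * ι w) ∈ Star ι y E := hE.d_conj F hw hn hm1S
  have hn1S : n1 ∈ Star ι y E := (Star ι y E).mul_mem hm1S hdm1
  have hdn1 : n1 * (t * ι w) = t * ι w * n1 := by
    calc n1 * (t * ι w) = m1 * (t * ι w * m1) * (t * ι w * (t * ι w)) := by rw [hn1]; group
      _ = m1 * (t * ι w * m1) := by rw [hdd, mul_one]
      _ = (t * ι w * (t * ι w)) * (m1 * (t * ι w * m1)) := by rw [hdd, one_mul]
      _ = t * ι w * ((t * ι w * m1 * (t * ι w)) * m1) := by group
      _ = t * ι w * n1 := by rw [hn1, hS _ hdm1 _ hm1S]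
  have hacd : Ac ι t (t * ι w * m1 * (t * ι w)) (e₁ * a * 1) := by
    rw [hm1, hdy heC (by rw [hwe]; exact heaC), hwe]
    exact (F.yac heaC).mul (F.ac _) (by rw [map_one, mul_one, one_mul])
  have hac : Ac ι t n1 (e₁ * (e₁ * a * 1)) := (F.yac heC).mul hacd
    (hS _ hm1S _ (ι_mem_star (by rw [mul_one]; exact hea)))
  rw [mul_one, ← mul_assoc, hE.sq F he₁, one_mul] at hac
  rcases hE.d_form F hn ha hn1S hdn1 with ⟨e, -, -, h1⟩ | ⟨e₂, he₂, hwe₂, h1, -, -⟩
  · exfalso
    rw [h1] at hac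
    exact ha1 (Ac.inj F.toAmb hac (F.ac e))
  · by_cases hv1 : e₁ * e₂ = 1
    · have h2 : e₂ = e₁ := by
        calc e₂ = (e₁ * e₁) * e₂ := by rw [hE.sq F he₁, one_mul]
          _ = e₁ * (e₁ * e₂) := by group
          _ = e₁ := by rw [hv1, mul_one]
      refine ⟨m1, hm1S, ?_⟩
      rw [← hn1, h1, h2]
    · set v := e₁ * e₂ with hv
      have hvE : v ∈ E := E.mul_mem he₁ he₂
      have hvC := hE.EC v hvE hv1
      have hwv : w * v * w⁻¹ = v := by
        calc w * v * w⁻¹ = (w * e₁ * w⁻¹) * (w * e₂ * w⁻¹) := by rw [hv]; group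
          _ = e₁ * (a * e₂) * a := by rw [hwe, hwe₂]; group
          _ = v * (a * a) := by rw [hE.comm F haE he₂, hv]; group
          _ = v := by rw [hE.sq F haE, mul_one]
      have hyv : y v ∈ Star ι y E := y_mem_star hvE hv1
      refine ⟨m1 * y v, (Star ι y E).mul_mem hm1S hyv, ?_⟩
      have h3 : t * ι w * (m1 * y v) * (t * ι w) =
          (t * ι w * m1 * (t * ι w)) * (t * ι w * y v * (t * ι w)) := by
        calc t * ι w * (m1 * y v) * (t * ι w) = t * ι w * m1 * 1 * y v * (t * ι w) := by group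
          _ = t * ι w * m1 * (t * ι w * (t * ι w)) * y v * (t * ι w) := by rw [hdd]
          _ = _ := by group
      have h4 : t * ι w * y v * (t * ι w) = y v * ι v := by
        rw [hdy hvC (by rw [hwv]; exact hvC), hwv]
      calc m1 * y v * (t * ι w * (m1 * y v) * (t * ι w))
          = m1 * (y v * (t * ι w * m1 * (t * ι w))) * (y v * ι v) := by rw [h3, h4]; group
        _ = m1 * ((t * ι w * m1 * (t * ι w)) * y v) * (y v * ι v) := by rw [hS _ hyv _ hdm1]
        _ = n1 * (y v * y v) * ι v := by rw [hn1]; group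
        _ = y a * ι (e₂ * v) := by rw [F.ysq v hvC, mul_one, h1, map_mul ι e₂ v]; group
        _ = y a * ι e₁ := by
          rw [hv, hE.comm F he₁ he₂, ← mul_assoc, hE.sq F he₂, one_mul]

/-- the core of Step 3 -/
theorem tv_core (hE : Good z y E) (F : Fam ι t z y) {w a : X} (hw : w ∈ Cl z)
    (hn : ∀ e ∈ E, w * e * w⁻¹ ∈ E) (ha : ∀ e ∈ E, w * e = e * w ∨ w * e * w⁻¹ = e * a)
    (haE : a ∈ E) (ha1 : a ≠ 1) (hwa : w * a = a * w)
    (k3 : ∀ q, q * q = 1 → (∀ e ∈ E, w * e = e * w → q * e = e * q) →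
      (∀ c, c * w = w * c → (∀ e ∈ E, c * e * c⁻¹ ∈ E) →
        q * c * q⁻¹ * c⁻¹ ∈ E ∧ w * (q * c * q⁻¹ * c⁻¹) = q * c * q⁻¹ * c⁻¹ * w) →
      q * w = w * q ∨ q ∈ E)
    {e₁ : X} (he₁ : e₁ ∈ E) (hwe : w * e₁ * w⁻¹ = e₁ * a) :
    ∃ q ∈ E, w * q * w⁻¹ = q * a ∧ y w * (y a * ι e₁) * y w = ι q := by
  have hS := hE.starComm F
  have haC := hE.EC a haE ha1
  have hW := F.ysq w hw
  have hWd := F.WdW hw
  have hWt := F.WtW hw
  have hdd := F.dd hw
  have hyaS : y a ∈ Star ι y E := y_mem_star haE ha1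
  set m := y a * ι e₁ with hm
  have hmS : m ∈ Star ι y E := (Star ι y E).mul_mem hyaS (ι_mem_star he₁)
  have hmd : m * (t * ι w) = t * ι w * m := hE.d_comm F haE ha1 hwa he₁ hwe
  have hmac : Ac ι t m a := by
    have := (F.yac haC).mul (F.ac e₁) (by rw [map_one, mul_one, one_mul])
    rwa [mul_one] at this
  have hmt : m * t ≠ t * m := fun h => ha1 (Ac.inj F.toAmb hmac (Ac.one_iff.2 h))
  -- `m₀ = W m W`
  set m0 := y w * m * y w with hm0
  have hWm0 : y w * m0 * y w = m := by
    calc y w * m0 * y w = (y w * y w) * m * (y w * y w) := by rw [hm0]; group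
      _ = m := by rw [hW, one_mul, mul_one]
  have hm0t : m0 * t = t * m0 := by
    calc m0 * t = y w * m * (y w * (y w * (t * ι w) * y w)) := by rw [hWd, hm0]; group
      _ = y w * m * ((y w * y w) * (t * ι w) * y w) := by group
      _ = y w * (m * (t * ι w)) * y w := by rw [hW, one_mul]; group
      _ = y w * (t * ι w) * (y w * y w) * m * y w := by rw [hmd, hW]; group
      _ = (y w * (t * ι w) * y w) * (y w * m * y w) := by group
      _ = t * m0 := by rw [hWd]
  obtain ⟨q, hq, hqc, -⟩ := F.spl' hm0t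
  have hm02 : m0 * m0 = 1 := by
    calc m0 * m0 = y w * m * (y w * y w) * m * y w := by rw [hm0]; group
      _ = y w * (m * m) * y w := by rw [hW]; group
      _ = 1 := by rw [hE.starSq F m hmS, mul_one, hW]
  have hqq : q * q = 1 := by
    apply F.inj
    rw [map_mul, map_one]
    rcases hq with h | h
    · rw [← h]; exact hm02
    · calc ι q * ι q = (t * t) * (ι q * ι q) := by rw [F.tt, one_mul]
        _ = t * (t * ι q) * ι q := by group
        _ = t * (ι q * t) * ι q := by rw [F.ct]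
        _ = (t * ι q) * (t * ι q) := by group
        _ = 1 := by rw [← h]; exact hm02
  have hWe : ∀ e, w * e = e * w → y w * ι e = ι e * y w := fun e he => (F.ycomm hw he.symm).symm
  have hqA : ∀ e ∈ E, w * e = e * w → q * e = e * q := by
    intro e he hwe'
    apply hqc
    calc m0 * ι e = y w * m * (y w * ι e) := by rw [hm0]; group
      _ = y w * (m * ι e) * y w := by rw [hWe e hwe']; group
      _ = (y w * ι e) * m * y w := by rw [hS m hmS _ (ι_mem_star he)]; group
      _ = ι e * m0 := by rw [hWe e hwe', hm0]; group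
  have hqC : ∀ c, c * w = w * c → (∀ e ∈ E, c * e * c⁻¹ ∈ E) →
      q * c * q⁻¹ * c⁻¹ ∈ E ∧ w * (q * c * q⁻¹ * c⁻¹) = q * c * q⁻¹ * c⁻¹ * w := by
    intro c hcw hcE
    have hct := F.ct c
    set m2 := ι c * m * (ι c)⁻¹ with hm2
    have hm2S : m2 ∈ Star ι y E := hE.star_conj F hcE hmS
    have hcd : ι c * (t * ι w) = t * ι w * ι c := by
      calc ι c * (t * ι w) = (ι c * t) * ι w := by group
        _ = t * (ι c * ι w) := by rw [hct]; group
        _ = t * ι w * ι c := by rw [← map_mul, hcw, map_mul]; group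
    have hm2d : m2 * (t * ι w) = t * ι w * m2 := by
      have h1 : (ι c)⁻¹ * (t * ι w) = t * ι w * (ι c)⁻¹ := by
        rw [inv_mul_eq_iff_eq_mul, ← mul_assoc, hcd, mul_inv_cancel_right]
      calc m2 * (t * ι w) = ι c * m * ((ι c)⁻¹ * (t * ι w)) := by rw [hm2]; group
        _ = ι c * (m * (t * ι w)) * (ι c)⁻¹ := by rw [h1]; group
        _ = (ι c * (t * ι w)) * m * (ι c)⁻¹ := by rw [hmd]; group
        _ = t * ι w * m2 := by rw [hcd, hm2]; group
    rcases hE.d_form F hn ha hm2S hm2d with ⟨e, -, -, h1⟩ | ⟨e₂, he₂, hwe₂, h1, -, -⟩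
    · exfalso
      apply hmt
      have h2 : m = ι (c⁻¹ * e * c) := by
        rw [map_mul, map_mul, map_inv, ← h1, hm2]; group
      rw [h2, F.ct]
    · set f := e₁ * e₂⁻¹ with hf
      have hfE : f ∈ E := E.mul_mem he₁ (E.inv_mem he₂)
      have hwf : w * f = f * w := by
        have h2 : w * f * w⁻¹ = f := by
          calc w * f * w⁻¹ = (w * e₁ * w⁻¹) * (w * e₂ * w⁻¹)⁻¹ := by rw [hf]; group
            _ = f := by rw [hwe, hwe₂, hf]; group
        rwa [mul_inv_eq_iff_eq_mul] at h2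
      have h3 : m = ι f * m2 := by
        have h4 : ι e₂ * y a = y a * ι e₂ := F.ycomm haC (hE.comm F he₂ haE)
        have h5 : ι f * y a = y a * ι f := F.ycomm haC (hE.comm F hfE haE)
        calc m = y a * ι (f * e₂) := by rw [hm, hf, inv_mul_cancel_right]
          _ = (y a * ι f) * ι e₂ := by rw [map_mul]; group
          _ = ι f * m2 := by rw [← h5, h1]; group
      have h4 : m0 = ι f * (ι c * m0 * (ι c)⁻¹) := by
        have h5 : y w * ι c = ι c * y w := hWe c hcw.symm
        have h6 : y w * (ι c)⁻¹ = (ι c)⁻¹ * y w := by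
          rw [← map_inv]
          exact hWe _ (Commute.inv_right (show Commute w c from hcw.symm))
        calc m0 = (y w * ι f) * m2 * y w := by rw [hm0]; nth_rw 1 [h3]; group
          _ = ι f * (y w * ι c) * m * ((ι c)⁻¹ * y w) := by rw [hWe f hwf, hm2]; group
          _ = ι f * (ι c * y w) * m * (y w * (ι c)⁻¹) := by rw [h5, h6]
          _ = ι f * (ι c * m0 * (ι c)⁻¹) := by rw [hm0]; group
      have h5 : q * c * q⁻¹ * c⁻¹ = f := by
        apply F.inj
        rw [map_mul, map_mul, map_mul, map_inv, map_inv]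
        rcases hq with h | h
        · rw [h] at h4
          calc ι q * ι c * (ι q)⁻¹ * (ι c)⁻¹ = (ι f * (ι c * ι q * (ι c)⁻¹)) * ι c * (ι q)⁻¹ * (ι c)⁻¹ := by
                rw [← h4]
            _ = ι f := by group
        · rw [h] at h4
          have h6 : t * ι q = t * (ι f * (ι c * ι q * (ι c)⁻¹)) := by
            calc t * ι q = ι f * (ι c * (t * ι q) * (ι c)⁻¹) := h4
              _ = ι f * (ι c * t) * ι q * (ι c)⁻¹ := by group
              _ = (ι f * t) * ι c * ι q * (ι c)⁻¹ := by rw [hct]; group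
              _ = t * (ι f * (ι c * ι q * (ι c)⁻¹)) := by rw [F.ct]; group
          have h7 := mul_left_cancel h6
          calc ι q * ι c * (ι q)⁻¹ * (ι c)⁻¹ = (ι f * (ι c * ι q * (ι c)⁻¹)) * ι c * (ι q)⁻¹ * (ι c)⁻¹ := by
                rw [← h7]
            _ = ι f := by group
      rw [h5]
      exact ⟨hfE, hwf⟩
  -- `q` does not commute with `w`
  have hqw : ¬ q * w = w * q := by
    intro h
    have h1 : y w * ι q = ι q * y w := hWe q h.symm
    apply hmt
    rcases hq with h2 | h2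
    · have h3 : m = ι q := by
        rw [← hWm0, h2, h1, mul_assoc, hW, mul_one]
      rw [h3, F.ct]
    · have h3 : m = t * ι (w * q) := by
        calc m = y w * (t * ι q) * y w := by rw [← hWm0, h2]
          _ = y w * t * (y w * y w) * ι q * y w := by rw [hW]; group
          _ = (y w * t * y w) * (y w * ι q) * y w := by group
          _ = t * ι w * ι q * (y w * y w) := by rw [hWt, h1]; group
          _ = t * ι (w * q) := by rw [hW, mul_one, map_mul]; group
      rw [h3]
      calc t * ι (w * q) * t = t * (ι (w * q) * t) := by group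
        _ = t * (t * ι (w * q)) := by rw [F.ct]
  have hqE : q ∈ E := (k3 q hqq hqA hqC).resolve_left hqw
  have hq1 : q ≠ 1 := by
    rintro rfl
    exact hqw (by rw [one_mul, mul_one])
  have hwq : w * q * w⁻¹ = q * a := (ha q hqE).resolve_left fun h => hqw h.symm
  refine ⟨q, hqE, hwq, ?_⟩
  rcases hq with h | h
  · exact h
  · exfalso
    obtain ⟨n, hnS, hnm⟩ := hE.exists_comm F hw hn ha haE ha1 he₁ hwe
    have hnn := hE.starSq F n hnS
    have hninv : n⁻¹ = n := inv_eq_of_mul_eq_one_left hnn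
    -- `n d n⁻¹ = m d = W ι q W`
    have h1 : n * (t * ι w) * n⁻¹ = m * (t * ι w) := by
      rw [hninv, hm, ← hnm]
      calc n * (t * ι w) * n = n * (t * ι w * n) * (t * ι w * (t * ι w)) := by rw [hdd]; group
        _ = n * (t * ι w * n * (t * ι w)) * (t * ι w) := by group
    have h2 : m * (t * ι w) = y w * ι q * y w := by
      rw [hmd, ← hWm0, h]
      calc t * ι w * (y w * (t * ι q) * y w) = t * ι w * (y w * t * (y w * y w) * ι q * y w) := by
            rw [hW]; group
        _ = t * ι w * ((y w * t * y w) * (y w * ι q * y w)) := by group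
        _ = (t * ι w * (t * ι w)) * (y w * ι q * y w) := by rw [hWt]; group
        _ = y w * ι q * y w := by rw [hdd, one_mul]
    obtain ⟨k, hk⟩ := hE.EC q hqE hq1
    apply F.tz ((ι k)⁻¹ * (y w * n * y w))
    have h3 : y w * n * y w * t * (y w * n * y w)⁻¹ = ι q := by
      calc y w * n * y w * t * (y w * n * y w)⁻¹
          = y w * (n * (y w * t * (y w)⁻¹) * n⁻¹) * (y w)⁻¹ := by group
        _ = y w * (n * (t * ι w) * n⁻¹) * (y w)⁻¹ := by rw [F.yt w hw]
        _ = y w * (y w * ι q * y w) * (y w)⁻¹ := by rw [h1, h2]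
        _ = (y w * y w) * ι q := by group
        _ = ι q := by rw [hW, one_mul]
    calc (ι k)⁻¹ * (y w * n * y w) * t * ((ι k)⁻¹ * (y w * n * y w))⁻¹
        = (ι k)⁻¹ * (y w * n * y w * t * (y w * n * y w)⁻¹) * ι k := by group
      _ = (ι k)⁻¹ * ι q * ι k := by rw [h3]
      _ = ι z := by rw [← hk, map_mul, map_mul, map_inv]; group

/-- **Step 3**: `y_w` normalises `E*` for a transvection `w` on `E` -/
theorem tv_conj (hE : Good z y E) (F : Fam ι t z y) {w : X} (hT : Tv z E w) :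
    ∀ m ∈ Star ι y E, y w * m * (y w)⁻¹ ∈ Star ι y E := by
  obtain ⟨a, haE, ha1, hwa, ha, e₁, he₁, hwe⟩ := hT.tv
  have hw := hT.wC
  have hn := hT.nor
  have hW := F.ysq w hw
  have hWd := F.WdW hw
  have hWt := F.WtW hw
  have hWi := F.yinv hw
  have haC := hE.EC a haE ha1
  have hWe : ∀ e, w * e = e * w → y w * ι e = ι e * y w := fun e he => (F.ycomm hw he.symm).symm
  obtain ⟨q, hqE, hwq, hq⟩ := hE.tv_core F hw hn ha haE ha1 hwa hT.k3 he₁ hwe
  have hmS : y a * ι e₁ ∈ Star ι y E := (Star ι y E).mul_mem (y_mem_star haE ha1) (ι_mem_star he₁)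
  set M : Subgroup G := (Star ι y E).map (MulAut.conj (y w)).toMonoidHom with hM
  have hmem : ∀ m, m ∈ M ↔ ∃ s ∈ Star ι y E, y w * s * y w = m := by
    intro m
    constructor
    · rintro ⟨s, hs, rfl⟩
      refine ⟨s, hs, ?_⟩
      show y w * s * y w = y w * s * (y w)⁻¹
      rw [hWi]
    · rintro ⟨s, hs, rfl⟩
      refine ⟨s, hs, ?_⟩
      show y w * s * (y w)⁻¹ = y w * s * y w
      rw [hWi]
  have hle : M ≤ Star ι y E := by
    apply hE.uniq F
    · intro m hm
      obtain ⟨s, hs, rfl⟩ := (hmem m).1 hm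
      calc y w * s * y w * (y w * s * y w) = y w * s * (y w * y w) * s * y w := by group
        _ = y w * (s * s) * y w := by rw [hW]; group
        _ = 1 := by rw [hE.starSq F s hs, mul_one, hW]
    · intro m hm
      obtain ⟨s, hs, rfl⟩ := (hmem m).1 hm
      refine (hmem _).2 ⟨_, hE.d_conj F hw hn hs, ?_⟩
      calc y w * (t * ι w * s * (t * ι w)) * y w
          = y w * (t * ι w) * (y w * y w) * s * (y w * y w) * (t * ι w) * y w := by rw [hW]; group
        _ = (y w * (t * ι w) * y w) * (y w * s * y w) * (y w * (t * ι w) * y w) := by group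
        _ = t * (y w * s * y w) * t := by rw [hWd]
    · intro m hm hmt
      obtain ⟨s, hs, rfl⟩ := (hmem m).1 hm
      have hsd : s * (t * ι w) = t * ι w * s := by
        calc s * (t * ι w) = (y w * y w) * s * (y w * t * y w) := by rw [hW, one_mul, hWt]
          _ = y w * ((y w * s * y w) * t) * y w := by group
          _ = y w * (t * (y w * s * y w)) * y w := by rw [hmt]
          _ = (y w * t * y w) * s * (y w * y w) := by group
          _ = t * ι w * s := by rw [hWt, hW, mul_one]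
      rcases hE.d_form F hn ha hs hsd with ⟨e, he, hwe', rfl⟩ | ⟨e₂, he₂, hwe₂, rfl, -, -⟩
      · refine ⟨e, he, ?_⟩
        rw [hWe e hwe', mul_assoc, hW, mul_one]
      · obtain ⟨q₂, hq₂, -, h⟩ := hE.tv_core F hw hn ha haE ha1 hwa hT.k3 he₂ hwe₂
        exact ⟨q₂, hq₂, h⟩
    · intro e he
      rcases ha e he with h | h
      · refine (hmem _).2 ⟨ι e, ι_mem_star he, ?_⟩
        rw [hWe e h, mul_assoc, hW, mul_one]
      · have heq : w * (e * q) = e * q * w := by
          rw [← mul_inv_eq_iff_eq_mul]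
          calc w * (e * q) * w⁻¹ = (w * e * w⁻¹) * (w * q * w⁻¹) := by group
            _ = e * (a * q) * a := by rw [h, hwq]; group
            _ = e * q * (a * a) := by rw [hE.comm F haE hqE]; group
            _ = e * q := by rw [hE.sq F haE, mul_one]
        refine (hmem _).2 ⟨ι (e * q) * (y a * ι e₁),
          (Star ι y E).mul_mem (ι_mem_star (E.mul_mem he hqE)) hmS, ?_⟩
        calc y w * (ι (e * q) * (y a * ι e₁)) * y w = (y w * ι (e * q)) * (y a * ι e₁) * y w := by
              group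
          _ = ι (e * q) * (y w * (y a * ι e₁) * y w) := by rw [hWe _ heq]; group
          _ = ι e := by rw [hq, ← map_mul, mul_assoc, hE.sq F hqE, mul_one]
  intro m hm
  apply hle
  exact ⟨m, hm, rfl⟩

/-- **Step 3'** (helper508): `y_{rs}` normalises `E*` -/
theorem rs_conj (hE : Good z y E) (F : Fam ι t z y) {r s : X} (hr : Tv z E r) (hs : Tv z E s)
    (hrs : r * s = s * r) (hC : r * s ∈ Cl z)
    (dc : ∀ x, (∀ c, c * r = r * c → c * s = s * c → x * c = c * x) → ∀ e ∈ E, x * e * x⁻¹ ∈ E) :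
    ∀ m ∈ Star ι y E, y (r * s) * m * (y (r * s))⁻¹ ∈ Star ι y E := by
  have hr2 := F.sq hr.wC
  have hs2 := F.sq hs.wC
  have h1 : Ac ι t (y s * y (r * s)) (s * (r * s)) :=
    (F.yac hs.wC).mul (F.yac hC) (F.ycomm hs.wC (by
      calc r * s * s = r * (s * s) := by group
        _ = s * (s * r) := by rw [hs2, mul_one, ← mul_assoc, hs2, one_mul]
        _ = s * (r * s) := by rw [hrs])).symm
  have hsrs : s * (r * s) = r := by rw [hrs, ← mul_assoc, hs2, one_mul]
  rw [hsrs] at h1
  have h2 : Ac ι t (y r * (y s * y (r * s))) (r * r) :=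
    (F.yac hr.wC).mul h1 (F.ycomm hr.wC rfl).symm
  rw [hr2] at h2
  set g := y r * (y s * y (r * s)) with hg
  obtain ⟨x, hx, hxc, -⟩ := F.spl' (Ac.one_iff.1 h2)
  have hxE := dc x (fun c hcr hcs => hxc c (by
    have a1 := F.ycomm hr.wC hcr
    have a2 := F.ycomm hs.wC hcs
    have a3 := F.ycomm hC (k := c) (by
      calc c * (r * s) = (c * r) * s := by group
        _ = r * (c * s) := by rw [hcr]; group
        _ = r * s * c := by rw [hcs]; group)
    calc g * ι c = y r * y s * (y (r * s) * ι c) := by rw [hg]; group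
      _ = y r * (y s * ι c) * y (r * s) := by rw [← a3]; group
      _ = (y r * ι c) * y s * y (r * s) := by rw [← a2]; group
      _ = ι c * g := by rw [← a1, hg]; group))
  have hgS : ∀ m ∈ Star ι y E, g * m * g⁻¹ ∈ Star ι y E := by
    intro m hm
    have h3 := hE.star_conj F hxE hm
    rcases hx with h | h
    · rwa [h]
    · have h4 := hE.star_t F h3
      rw [h]
      have e : t * ι x * m * (t * ι x)⁻¹ = t * (ι x * m * (ι x)⁻¹) * t := by
        rw [mul_inv_rev, F.tinv]; group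
      rwa [e]
  intro m hm
  have h3 := hE.tv_conj F hs _ (hE.tv_conj F hr _ (hgS m hm))
  have e : y (r * s) = y s * (y r * g) := by
    rw [hg, ← mul_assoc (y r), F.ysq r hr.wC, one_mul, ← mul_assoc, F.ysq s hs.wC, one_mul]
  rw [e]
  have e2 : y s * (y r * g) * m * (y s * (y r * g))⁻¹ =
      y s * (y r * (g * m * g⁻¹) * (y r)⁻¹) * (y s)⁻¹ := by group
  rwa [e2]

end Good

end Cfsg.Agent.OddHalf.M24

end

-- merged: Cfsg.Agent.OddHalf.M24.Big
section

/-!
# ODD half, D8, `K = M24`: the doubled group `Q* = E* V*` (helper785)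

`V* = E'* ∩ N(E*)`, `M = E* V*` (`big`). Output: `Big`.
-/

set_option autoImplicit false

namespace Cfsg.Agent.OddHalf.M24

open Subgroup

variable {X G : Type*} [Group X] [Group G] {ι : X →* G} {t : G} {z : X} {y : X → G}

/-- the output of Steps 2 - 5 -/
structure Big (ι : X →* G) (t : G) (y : X → G) (Q : Subgroup X) (M : Subgroup G) (w w' : X) :
    Prop where
  tM : t ∈ normalizer (M : Set G)
  cen : ∀ m ∈ M, m * t = t * m → ∃ q ∈ Q, m = ι q
  le : ∀ q ∈ Q, ι q ∈ M
  /-- all involutions of `t M` are `M`-conjugate to `t` -/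
  inv : ∀ m ∈ M, t * m * (t * m) = 1 → ∃ n ∈ M, n * t * n⁻¹ = t * m
  nor : ∀ k, ι k ∈ normalizer (M : Set G) ↔ ∀ q ∈ Q, k * q * k⁻¹ ∈ Q
  yw : y w ∈ normalizer (M : Set G)
  yw' : y w' ∈ normalizer (M : Set G)

/-- `ι k` maps `E'*` to `E*` if `k` maps `E'` to `E` -/
theorem Good.star_map {E E' : Subgroup X} (hE' : Good z y E') (F : Fam ι t z y) {k : X}
    (hk : ∀ e ∈ E', k * e * k⁻¹ ∈ E) {m : G} (hm : m ∈ Star ι y E') :
    ι k * m * (ι k)⁻¹ ∈ Star ι y E := by
  induction hm using closure_induction with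
  | mem x hx =>
    rcases hx with ⟨e, he, rfl⟩ | ⟨e, he, he1, rfl⟩
    · rw [← map_inv, ← map_mul, ← map_mul]
      exact ι_mem_star (hk e he)
    · rw [← F.yeq e (hE'.EC e he he1)]
      exact y_mem_star (hk e he) fun h1 => he1 (by
        rw [mul_inv_eq_one] at h1
        exact mul_eq_left.1 h1)
  | one => rw [mul_one, mul_inv_cancel]; exact one_mem _
  | mul a b _ _ iha ihb =>
    have := (Star ι y E).mul_mem iha ihb
    have e : ι k * a * (ι k)⁻¹ * (ι k * b * (ι k)⁻¹) = ι k * (a * b) * (ι k)⁻¹ := by group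
    rwa [e] at this
  | inv a _ iha =>
    have := (Star ι y E).inv_mem iha
    have e : (ι k * a * (ι k)⁻¹)⁻¹ = ι k * a⁻¹ * (ι k)⁻¹ := by group
    rwa [e] at this

section

variable {E E' V : Subgroup X}

/-- `ι x ∈ N(E*)` implies `x ∈ N(E)` -/
theorem Good.ι_nor (hE : Good z y E) (F : Fam ι t z y) {x : X}
    (hx : ι x ∈ normalizer (Star ι y E : Set G)) {e : X} (he : e ∈ E) : x * e * x⁻¹ ∈ E := by
  have h1 : ι x * ι e * (ι x)⁻¹ ∈ Star ι y E := (mem_normalizer_iff.1 hx _).1 (ι_mem_star he)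
  rw [← map_mul, ← map_inv, ← map_mul] at h1
  obtain ⟨f, hf, h2⟩ := hE.star_cen F h1 (F.ct _)
  rw [F.inj h2]
  exact hf

variable {r s w w' : X} [Finite G]

theorem Good.ι_mem_nor (hE : Good z y E) (F : Fam ι t z y) {x : X}
    (hx : ∀ e ∈ E, x * e * x⁻¹ ∈ E) : ι x ∈ normalizer (Star ι y E : Set G) :=
  mem_normalizer_fintype fun _ hm => hE.star_conj F hx hm

theorem Good.t_mem_nor (hE : Good z y E) (F : Fam ι t z y) :
    t ∈ normalizer (Star ι y E : Set G) :=
  mem_normalizer_fintype fun _ hm => by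
    rw [F.tinv]
    exact hE.star_t F hm

/-- `V* = E'* ∩ N(E*)` -/
def VS (ι : X →* G) (y : X → G) (E E' : Subgroup X) : Subgroup G :=
  Star ι y E' ⊓ normalizer (Star ι y E : Set G)

/-- `M = E* V*` -/
def MM (ι : X →* G) (y : X → G) (E E' : Subgroup X) : Subgroup G where
  carrier := {x | ∃ m ∈ Star ι y E, ∃ v ∈ VS ι y E E', x = m * v}
  mul_mem' := by
    rintro _ _ ⟨m, hm, v, hv, rfl⟩ ⟨n, hn, u, hu, rfl⟩
    refine ⟨m * (v * n * v⁻¹), (Star ι y E).mul_mem hm ((mem_normalizer_iff.1 hv.2 n).1 hn), v * u,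
      (VS ι y E E').mul_mem hv hu, ?_⟩
    group
  one_mem' := ⟨1, one_mem _, 1, one_mem _, (one_mul 1).symm⟩
  inv_mem' := by
    rintro _ ⟨m, hm, v, hv, rfl⟩
    refine ⟨v⁻¹ * m⁻¹ * v⁻¹⁻¹, (mem_normalizer_iff.1 (inv_mem hv.2) m⁻¹).1 (inv_mem hm), v⁻¹,
      inv_mem hv, ?_⟩
    group

omit [Finite G] in
theorem star_le_MM {m : G} (hm : m ∈ Star ι y E) : m ∈ MM ι y E E' :=
  ⟨m, hm, 1, one_mem _, (mul_one m).symm⟩

omit [Finite G] in
theorem VS_le_MM {v : G} (hv : v ∈ VS ι y E E') : v ∈ MM ι y E E' :=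
  ⟨1, one_mem _, v, hv, (one_mul v).symm⟩

/-- **Steps 4 and 5** -/
theorem big (F : Fam ι t z y) (fE : FactsE z E) (fQ : FactsQ z E E' V r s w w') :
    Big ι t y (E ⊔ V) (MM ι y E E') w w' := by
  have hE := fE.good F
  obtain ⟨k₀, hk₀, hk₀w⟩ := fQ.kw
  obtain ⟨k₁, hk₁, hk₁w⟩ := fQ.kw'
  have hE' : Good z y E' := hE.conj F hk₀
  have hV'E : ∀ v ∈ V, ∀ e ∈ E, v * e * v⁻¹ ∈ E := by
    intro v hv e he
    by_cases h1 : v = 1
    · rw [h1, one_mul, inv_one, mul_one]; exact he
    · exact (fQ.tvV v hv h1).nor e he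
  -- members of `V*`
  have hιV : ∀ v ∈ V, ι v ∈ VS ι y E E' := fun v hv =>
    ⟨ι_mem_star (fQ.VE' hv), hE.ι_mem_nor F (hV'E v hv)⟩
  have hyV : ∀ v ∈ V, v ≠ 1 → y v ∈ VS ι y E E' := fun v hv h1 =>
    ⟨y_mem_star (fQ.VE' hv) h1, mem_normalizer_fintype fun m hm =>
      hE.tv_conj F (fQ.tvV v hv h1) m hm⟩
  have hVS : ∀ m ∈ VS ι y E E', (∃ e ∈ V, m = ι e) ∨ (∃ v ∈ V, v ≠ 1 ∧ ∃ e ∈ V, m = y v * ι e) := by
    intro m hm
    obtain ⟨v, hv, hac⟩ := hE'.starAc F m hm.1
    have hιv : ι v ∈ normalizer (Star ι y E : Set G) := by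
      have h1 : ι v = t⁻¹ * (m * t * m⁻¹) := by
        unfold Ac at hac
        rw [hac]; group
      rw [h1]
      have ht := hE.t_mem_nor F
      exact mul_mem (inv_mem ht) (mul_mem (mul_mem hm.2 ht) (inv_mem hm.2))
    have hvV : v ∈ V := fQ.norV v hv fun e he => hE.ι_nor F hιv he
    rcases hE'.form F hm.1 hv hac with ⟨-, e, he, h1⟩ | ⟨hv1, e, he, h1⟩
    · left
      refine ⟨e, fQ.norV e he fun f hf => hE.ι_nor F ?_ hf, h1⟩
      rw [← h1]; exact hm.2
    · right
      refine ⟨v, hvV, hv1, e, fQ.norV e he fun f hf => hE.ι_nor F ?_ hf, h1⟩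
      have h2 : ι e = (y v)⁻¹ * m := by rw [h1]; group
      rw [h2]
      exact mul_mem (inv_mem (hyV v hvV hv1).2) hm.2
  -- `E ∩ E' = 1`
  have hEE' : ∀ e ∈ E, e ∈ E' → e = 1 := by
    intro e he he'
    apply fQ.inf e _ he
    apply fQ.norV e he'
    intro f hf
    rw [hE.comm F he hf, mul_inv_cancel_right]
    exact hf
  have hinter : ∀ m, m ∈ Star ι y E → m ∈ Star ι y E' → m = 1 := by
    intro m hm hm'
    obtain ⟨v, hv, h1⟩ := hE.starAc F m hm
    obtain ⟨v', hv', h2⟩ := hE'.starAc F m hm'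
    have h3 := Ac.inj F.toAmb h1 h2
    have hv1 : v = 1 := hEE' v hv (h3 ▸ hv')
    rw [hv1] at h1
    obtain ⟨e, he, h4⟩ := hE.star_cen F hm (Ac.one_iff.1 h1)
    obtain ⟨e', he', h5⟩ := hE'.star_cen F hm' (Ac.one_iff.1 h1)
    have h6 : e = e' := F.inj (h4.symm.trans h5)
    rw [h4, hEE' e he (h6 ▸ he'), map_one]
  have hVt : ∀ v ∈ VS ι y E E', t * v * t ∈ VS ι y E E' := by
    intro v hv
    refine ⟨hE'.star_t F hv.1, ?_⟩
    have ht := hE.t_mem_nor F
    exact mul_mem (mul_mem ht hv.2) ht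
  -- `C_M(t)`
  have hsplit : ∀ m ∈ Star ι y E, ∀ v ∈ VS ι y E E', t * (m * v) * t = m * v →
      t * m * t = m ∧ t * v * t = v := by
    intro m hm v hv h
    have h1 : t * (m * v) * t = (t * m * t) * (t * v * t) := by
      calc t * (m * v) * t = t * m * 1 * v * t := by group
        _ = t * m * (t * t) * v * t := by rw [F.tt]
        _ = _ := by group
    rw [h1] at h
    have h2 : m⁻¹ * (t * m * t) = v * (t * v * t)⁻¹ := by
      calc m⁻¹ * (t * m * t) = m⁻¹ * ((t * m * t) * (t * v * t)) * (t * v * t)⁻¹ := by group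
        _ = v * (t * v * t)⁻¹ := by rw [h]; group
    have h3 : m⁻¹ * (t * m * t) = 1 := by
      apply hinter
      · exact mul_mem (inv_mem hm) (hE.star_t F hm)
      · rw [h2]
        exact mul_mem hv.1 (inv_mem (hVt v hv).1)
    refine ⟨(inv_mul_eq_one.1 h3).symm, ?_⟩
    rw [h3] at h2
    exact (mul_inv_eq_one.1 h2.symm).symm
  have htt : ∀ x : G, t * x * t = x → x * t = t * x := by
    intro x h
    calc x * t = t * t * (x * t) := by rw [F.tt, one_mul]
      _ = t * (t * x * t) := by group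
      _ = t * x := by rw [h]
  have htt' : ∀ x : G, x * t = t * x → t * x * t = x := by
    intro x h
    rw [mul_assoc, h, ← mul_assoc, F.tt, one_mul]
  have hcenV : ∀ v ∈ VS ι y E E', v * t = t * v → ∃ e ∈ V, v = ι e := by
    intro v hv h
    rcases hVS v hv with ⟨e, he, h1⟩ | ⟨u, hu, hu1, e, he, h1⟩
    · exact ⟨e, he, h1⟩
    · exfalso
      have huC := hE'.EC u (fQ.VE' hu) hu1
      have h2 : Ac ι t v (u * 1) := by
        rw [h1]
        exact (F.yac huC).mul (F.ac e) (by rw [map_one, mul_one, one_mul])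
      have h3 := Ac.inj F.toAmb h2 (Ac.one_iff.2 h)
      rw [mul_one] at h3
      exact hu1 h3
  have hle : ∀ q ∈ E ⊔ V, ι q ∈ MM ι y E E' := by
    have h1 : E ⊔ V ≤ (MM ι y E E').comap ι := by
      rw [sup_le_iff]
      exact ⟨fun e he => star_le_MM (ι_mem_star he), fun v hv => VS_le_MM (hιV v hv)⟩
    exact fun q hq => h1 hq
  have hcen : ∀ m ∈ MM ι y E E', m * t = t * m → ∃ q ∈ E ⊔ V, m = ι q := by
    rintro _ ⟨m, hm, v, hv, rfl⟩ h
    obtain ⟨h1, h2⟩ := hsplit m hm v hv (htt' _ h)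
    obtain ⟨e, he, h3⟩ := hE.star_cen F hm (htt _ h1)
    obtain ⟨f, hf, h4⟩ := hcenV v hv (htt _ h2)
    exact ⟨e * f, (E ⊔ V).mul_mem ((le_sup_left : E ≤ _) he) ((le_sup_right : V ≤ _) hf), by
      rw [h3, h4, map_mul]⟩
  -- involutions of `t E*`
  have hinvE : ∀ m ∈ Star ι y E, t * m * (t * m) = 1 → ∃ n ∈ Star ι y E, n * t * n⁻¹ = t * m := by
    intro m hm h
    have h1 : t * m * t = m := by
      have h2 : t * m * t = m⁻¹ := by
        apply eq_inv_of_mul_eq_one_left
        calc t * m * t * m = t * m * (t * m) := by group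
          _ = 1 := h
      rw [h2]
      exact inv_eq_of_mul_eq_one_left (hE.starSq F m hm)
    obtain ⟨e, he, h3⟩ := hE.star_cen F hm (htt _ h1)
    by_cases he1 : e = 1
    · refine ⟨1, one_mem _, ?_⟩
      rw [h3, he1, map_one]; group
    · refine ⟨y e, y_mem_star he he1, ?_⟩
      rw [F.yt e (hE.EC e he he1), h3]
  have hMn : ∀ g, g ∈ normalizer (Star ι y E : Set G) → g ∈ normalizer (Star ι y E' : Set G) →
      g ∈ normalizer (MM ι y E E' : Set G) := by
    intro g h1 h2
    apply mem_normalizer_fintype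
    rintro _ ⟨m, hm, v, hv, rfl⟩
    refine ⟨g * m * g⁻¹, (mem_normalizer_iff.1 h1 m).1 hm, g * v * g⁻¹,
      ⟨(mem_normalizer_iff.1 h2 v).1 hv.1, Subgroup.mul_mem _ (Subgroup.mul_mem _ h1 hv.2)
        (Subgroup.inv_mem _ h1)⟩, by group⟩
  -- `y_w` normalises `E'*`
  have hyw' : ∀ {k w : X}, w ∈ Cl z → (∀ x, x ∈ E' ↔ k * x * k⁻¹ ∈ E) → k * w * k⁻¹ = r * s →
      y w ∈ normalizer (Star ι y E' : Set G) := by
    intro k w hw hk hkw
    apply mem_normalizer_fintype
    intro m hm
    have h1 : ι k * m * (ι k)⁻¹ ∈ Star ι y E := hE'.star_map F (fun e he => (hk e).1 he) hm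
    have h2 := hE.rs_conj F fQ.tvr fQ.tvs fQ.rs fQ.rsC fQ.dcrs _ h1
    have h3 := hE.star_map F (E := E') (k := k⁻¹) (fun e he => (hk _).2 (by
      have e1 : k * (k⁻¹ * e * k⁻¹⁻¹) * k⁻¹ = e := by group
      rw [e1]; exact he)) h2
    have h4 : y (r * s) = ι k * y w * (ι k)⁻¹ := by rw [← hkw, F.yeq w hw]
    have h5 : ι k⁻¹ * (y (r * s) * (ι k * m * (ι k)⁻¹) * (y (r * s))⁻¹) * (ι k⁻¹)⁻¹ =
        y w * m * (y w)⁻¹ := by
      rw [h4, map_inv]; group
    rwa [h5] at h3
  refine ⟨?_, hcen, hle, ?_, ?_, ?_, ?_⟩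
  · exact hMn t (hE.t_mem_nor F) (hE'.t_mem_nor F)
  · rintro _ ⟨m, hm, v, hv, rfl⟩ h
    have h1 : t * v * t * v = 1 := by
      have h2 : (t * m * t) * ((t * v * t) * m * (t * v * t)⁻¹) * (t * v * t * v) = 1 := by
        calc (t * m * t) * ((t * v * t) * m * (t * v * t)⁻¹) * (t * v * t * v)
            = t * m * (t * t) * v * t * m * v := by group
          _ = t * (m * v) * (t * (m * v)) := by rw [F.tt]; group
          _ = 1 := h
      have hv' := hVt v hv
      have h3 : (t * m * t) * ((t * v * t) * m * (t * v * t)⁻¹) ∈ Star ι y E :=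
        mul_mem (hE.star_t F hm) ((mem_normalizer_iff.1 hv'.2 m).1 hm)
      have h4 : t * v * t * v = ((t * m * t) * ((t * v * t) * m * (t * v * t)⁻¹))⁻¹ :=
        eq_inv_of_mul_eq_one_right h2
      apply hinter
      · rw [h4]; exact inv_mem h3
      · exact mul_mem hv'.1 hv.1
    have h2 : t * v * t = v := by
      rw [eq_inv_of_mul_eq_one_left h1]
      exact inv_eq_of_mul_eq_one_left (hE'.starSq F v hv.1)
    obtain ⟨f, hf, hfv⟩ := hcenV v hv (htt _ h2)
    by_cases hf1 : f = 1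
    · rw [hfv, hf1, map_one, mul_one] at h ⊢
      obtain ⟨n, hn, h3⟩ := hinvE m hm h
      exact ⟨n, star_le_MM hn, h3⟩
    · have hfC := hE'.EC f (fQ.VE' hf) hf1
      have hY := F.ysq f hfC
      have hYi := F.yinv hfC
      have hYV := hyV f hf hf1
      have hf2 : ι f * ι f = 1 := F.ιsq hfC
      have hfi : (ι f)⁻¹ = ι f := inv_eq_of_mul_eq_one_left hf2
      have hYf : y f * ι f = ι f * y f := (F.ycomm hfC rfl).symm
      have hYt : y f * t * y f = t * ι f := F.WtW hfC
      set m2 := ι f * (y f * m * (y f)⁻¹) * (ι f)⁻¹ with hm2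
      have hm2S : m2 ∈ Star ι y E :=
        hE.star_conj F (hV'E f hf) ((mem_normalizer_iff.1 hYV.2 m).1 hm)
      have h3 : y f * (t * (m * v)) * y f = t * m2 := by
        calc y f * (t * (m * v)) * y f = y f * t * 1 * m * v * y f := by group
          _ = y f * t * (y f * y f) * m * (ι f * y f) := by rw [hY, hfv]; group
          _ = (y f * t * y f) * (y f * m) * (y f * ι f) := by rw [← hYf]; group
          _ = t * (ι f * (y f * m * y f) * ι f) := by rw [hYt]; group
          _ = t * m2 := by rw [hm2, hYi, hfi]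
      have h4 : t * m2 * (t * m2) = 1 := by
        rw [← h3]
        calc y f * (t * (m * v)) * y f * (y f * (t * (m * v)) * y f)
            = y f * (t * (m * v)) * (y f * y f) * (t * (m * v)) * y f := by group
          _ = y f * (t * (m * v) * (t * (m * v))) * y f := by rw [hY]; group
          _ = 1 := by rw [h, mul_one, hY]
      obtain ⟨n, hn, h5⟩ := hinvE m2 hm2S h4
      refine ⟨y f * n, mul_mem (VS_le_MM hYV) (star_le_MM hn), ?_⟩
      calc y f * n * t * (y f * n)⁻¹ = y f * (n * t * n⁻¹) * (y f)⁻¹ := by group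
        _ = y f * (y f * (t * (m * v)) * y f) * y f := by rw [h5, ← h3, hYi]
        _ = (y f * y f) * (t * (m * v)) * (y f * y f) := by group
        _ = t * (m * v) := by rw [hY, one_mul, mul_one]
  · intro k
    constructor
    · intro hk q hq
      have h1 : ι k * ι q * (ι k)⁻¹ ∈ MM ι y E E' := (mem_normalizer_iff.1 hk _).1 (hle q hq)
      rw [← map_mul, ← map_inv, ← map_mul] at h1
      obtain ⟨q', hq', h2⟩ := hcen _ h1 (F.ct _)
      rw [F.inj h2]
      exact hq'
    · intro hk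
      have hkE := fQ.norQ k hk
      have hfin : Finite E := Nat.finite_of_card_ne_zero (by rw [fE.card]; norm_num)
      have hkN : k ∈ normalizer (E : Set X) := by
        have : Finite (E : Set X) := hfin
        exact mem_normalizer_fintype hkE
      apply mem_normalizer_fintype
      rintro _ ⟨m, hm, v, hv, rfl⟩
      have e1 : ι k * (m * v) * (ι k)⁻¹ = (ι k * m * (ι k)⁻¹) * (ι k * v * (ι k)⁻¹) := by group
      rw [e1]
      refine mul_mem (star_le_MM (hE.star_conj F hkE hm)) ?_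
      have hιk : ∀ e ∈ V, ι k * ι e * (ι k)⁻¹ ∈ MM ι y E E' := by
        intro e he
        rw [← map_mul, ← map_inv, ← map_mul]
        exact hle _ (hk e ((le_sup_right : V ≤ _) he))
      rcases hVS v hv with ⟨e, he, h1⟩ | ⟨u, hu, hu1, e, he, h1⟩
      · rw [h1]; exact hιk e he
      · have e2 : ι k * v * (ι k)⁻¹ = (ι k * y u * (ι k)⁻¹) * (ι k * ι e * (ι k)⁻¹) := by
          rw [h1]; group
        rw [e2]
        refine mul_mem ?_ (hιk e he)
        have huC := hE'.EC u (fQ.VE' hu) hu1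
        rw [← F.yeq u huC]
        set c := k * u * k⁻¹ with hc
        have hcC : c ∈ Cl z := Cl_conj huC k
        have hcQ : c ∈ E ⊔ V := hk u ((le_sup_right : V ≤ _) hu)
        have hcE : c ∉ E := fun h => hu1 (fQ.inf u hu ((mem_normalizer_iff.1 hkN u).2 h))
        obtain ⟨e0, he0, h2⟩ := fQ.conjV c hcQ hcC hcE
        have hv2 : e0 * c * e0⁻¹ ≠ 1 := fun h3 => F.ne1 hcC (by
          rw [mul_inv_eq_one] at h3
          exact mul_eq_left.1 h3)
        have h3 : y c = (ι e0)⁻¹ * y (e0 * c * e0⁻¹) * ι e0 := by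
          rw [F.yeq c hcC]; group
        rw [h3]
        have h4 := star_le_MM (E' := E') (y := y) (ι_mem_star (ι := ι) (y := y) he0)
        exact mul_mem (mul_mem (inv_mem h4) (VS_le_MM (hyV _ h2 hv2))) h4
  · exact hMn _ (mem_normalizer_fintype fun m hm => hE.tv_conj F fQ.tvw m hm)
      (hyw' fQ.tvw.wC hk₀ hk₀w)
  · exact hMn _ (mem_normalizer_fintype fun m hm => hE.tv_conj F fQ.tvw' m hm)
      (hyw' fQ.tvw'.wC hk₁ hk₁w)

end

end Cfsg.Agent.OddHalf.M24

end

-- merged: Cfsg.Agent.OddHalf.M24.StepOne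
section

/-!
# ODD half, D8, `K = M24`: Step 1 (helper502; text bb #10112)

`exists_fam`: the output `Out` of the front end, `Aut(X) = Inn(X)` and `FactsP` give the family `Fam`.
-/

set_option autoImplicit false

namespace Cfsg.Agent.OddHalf.M24.StepOne

open Subgroup Cfsg.Agent.OddHalf.D8.Front Cfsg.Agent.OddHalf.D8.GlueE

section Abstract

variable {X G : Type*} [Group X] [Group G] {ι : X →* G} {t : G} {z : X}

/-- the family from one member -/
theorem fam_of_one (h : Amb ι t) (zz : z * z = 1) (z1 : z ≠ 1) (tz : ∀ g, g * t * g⁻¹ ≠ ι z) {y : G}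
    (ysq : y * y = 1) (yt : y * t * y⁻¹ = t * ι z) (yc : ∀ c, c * z = z * c → y * ι c = ι c * y) :
    ∃ y : X → G, Fam ι t z y := by
  classical
  let f : X → G := fun u => if h : ∃ k, k * z * k⁻¹ = u then ι h.choose * y * (ι h.choose)⁻¹ else 1
  have hf : ∀ k, f (k * z * k⁻¹) = ι k * y * (ι k)⁻¹ := by
    intro k
    have h1 : ∃ k', k' * z * k'⁻¹ = k * z * k⁻¹ := ⟨k, rfl⟩
    have h2 : f (k * z * k⁻¹) = ι h1.choose * y * (ι h1.choose)⁻¹ := dif_pos h1
    rw [h2]
    have h3 := h1.choose_spec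
    set k' := h1.choose
    have h4 : (k⁻¹ * k') * z = z * (k⁻¹ * k') := by
      calc (k⁻¹ * k') * z = k⁻¹ * (k' * z * k'⁻¹) * k' := by group
        _ = k⁻¹ * (k * z * k⁻¹) * k' := by rw [h3]
        _ = z * (k⁻¹ * k') := by group
    have h5 := yc _ h4
    have h6 : ι k' = ι k * ι (k⁻¹ * k') := by rw [← map_mul]; congr 1; group
    rw [h6]
    calc ι k * ι (k⁻¹ * k') * y * (ι k * ι (k⁻¹ * k'))⁻¹
        = ι k * (ι (k⁻¹ * k') * y) * (ι (k⁻¹ * k'))⁻¹ * (ι k)⁻¹ := by group
      _ = ι k * (y * ι (k⁻¹ * k')) * (ι (k⁻¹ * k'))⁻¹ * (ι k)⁻¹ := by rw [h5]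
      _ = ι k * y * (ι k)⁻¹ := by group
  refine ⟨f, { h with zz := zz, z1 := z1, tz := tz, ysq := ?_, yt := ?_, yeq := ?_ }⟩
  · rintro _ ⟨k, rfl⟩
    rw [hf]
    calc ι k * y * (ι k)⁻¹ * (ι k * y * (ι k)⁻¹) = ι k * (y * y) * (ι k)⁻¹ := by group
      _ = 1 := by rw [ysq]; group
  · rintro _ ⟨k, rfl⟩
    rw [hf, map_mul, map_mul, map_inv]
    have h1 := h.ct k
    have h2 : (ι k)⁻¹ * t * ι k = t := by rw [mul_assoc, ← h1]; group
    calc ι k * y * (ι k)⁻¹ * t * (ι k * y * (ι k)⁻¹)⁻¹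
        = ι k * (y * ((ι k)⁻¹ * t * ι k) * y⁻¹) * (ι k)⁻¹ := by group
      _ = (ι k * t) * ι z * (ι k)⁻¹ := by rw [h2, yt]; group
      _ = t * (ι k * ι z * (ι k)⁻¹) := by rw [h1]; group
  · rintro _ ⟨k', rfl⟩ k
    have h1 : k * (k' * z * k'⁻¹) * k⁻¹ = (k * k') * z * (k * k')⁻¹ := by group
    rw [h1, hf, hf, map_mul]
    group

/-- **Step 1**: an involution `y` that centralises `ι(C_X(z))`, `t ↦ t z` under `y` -/
theorem exists_one (h : Amb ι t) {E E₂ : Subgroup X} (F : FactsP z E E₂) {x : G}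
    (xt : x * t * x⁻¹ = t * ι z) (xz : x * ι z * x⁻¹ = ι z)
    (xP : ∀ c, c * z = z * c → ∃ c', c' * z = z * c' ∧ x * ι c * x⁻¹ = ι c')
    (xP' : ∀ c, c * z = z * c → ∃ c', c' * z = z * c' ∧ x⁻¹ * ι c * x = ι c') :
    ∃ y : G, y * y = 1 ∧ y * t * y⁻¹ = t * ι z ∧ ∀ c, c * z = z * c → y * ι c = ι c * y := by
  have hzz : ι z * ι z = 1 := by rw [← map_mul, F.zz, map_one]
  have hz1 : ι z ≠ 1 := fun e => F.z1 (h.inj (by rw [e, map_one]))
  have hmem : ∀ {c : X}, c ∈ centralizer ({z} : Set X) ↔ c * z = z * c := mem_centralizer_singleton_iff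
  -- the automorphism `β`
  have fw : ∀ c : centralizer ({z} : Set X), ∃ c' : centralizer ({z} : Set X),
      x * ι (c : X) * x⁻¹ = ι (c' : X) := by
    intro c
    obtain ⟨c', h1, h2⟩ := xP c (hmem.1 c.2)
    exact ⟨⟨c', hmem.2 h1⟩, h2⟩
  have bw : ∀ c : centralizer ({z} : Set X), ∃ c' : centralizer ({z} : Set X),
      x⁻¹ * ι (c : X) * x = ι (c' : X) := by
    intro c
    obtain ⟨c', h1, h2⟩ := xP' c (hmem.1 c.2)
    exact ⟨⟨c', hmem.2 h1⟩, h2⟩
  choose f hf using fw
  choose f' hf' using bw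
  let β : MulAut (centralizer ({z} : Set X)) :=
    { toFun := f
      invFun := f'
      left_inv := by
        intro c
        apply Subtype.ext
        apply h.inj
        rw [← hf', ← hf]
        group
      right_inv := by
        intro c
        apply Subtype.ext
        apply h.inj
        rw [← hf, ← hf']
        group
      map_mul' := by
        intro c d
        apply Subtype.ext
        apply h.inj
        rw [← hf, Subgroup.coe_mul, Subgroup.coe_mul, map_mul, map_mul, ← hf, ← hf]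
        group }
  have hβ : ∀ c : centralizer ({z} : Set X), x * ι (c : X) * x⁻¹ = ι (β c : X) := hf
  -- `x⁻¹ t x = t z`
  have xt' : x⁻¹ * t * x = t * ι z := by
    calc x⁻¹ * t * x = x⁻¹ * (t * ι z * ι z) * x := by
          rw [mul_assoc t, hzz, mul_one]
      _ = x⁻¹ * ((x * t * x⁻¹) * (x * ι z * x⁻¹)) * x := by rw [xt, xz]
      _ = t * ι z := by group
  have xz' : x⁻¹ * ι z * x = ι z := by
    calc x⁻¹ * ι z * x = x⁻¹ * (x * ι z * x⁻¹) * x := by rw [xz]
      _ = ι z := by group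
  rcases F.autE β with hE | ⟨hE, hE'⟩
  · -- `β` is inner
    obtain ⟨p, hp⟩ := F.autI β hE
    have hpz : (p : X) * z = z * p := hmem.1 p.2
    have hpz' : (ι (p : X))⁻¹ * ι z * ι (p : X) = ι z := by
      rw [mul_assoc, ← map_mul, ← hpz, map_mul]; group
    have hpt : (ι (p : X))⁻¹ * t * ι (p : X) = t := by
      rw [mul_assoc, ← h.ct]; group
    set x' : G := (ι (p : X))⁻¹ * x with hx'
    have x't : x' * t * x'⁻¹ = t * ι z := by
      calc x' * t * x'⁻¹ = (ι (p : X))⁻¹ * (x * t * x⁻¹) * ι (p : X) := by rw [hx']; group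
        _ = ((ι (p : X))⁻¹ * t * ι (p : X)) * ((ι (p : X))⁻¹ * ι z * ι (p : X)) := by rw [xt]; group
        _ = t * ι z := by rw [hpt, hpz']
    have x'c : ∀ c, c * z = z * c → x' * ι c = ι c * x' := by
      intro c hc
      have h1 := hβ ⟨c, hmem.2 hc⟩
      rw [hp, MulAut.conj_apply, Subgroup.coe_mul, Subgroup.coe_mul, map_mul, map_mul,
        InvMemClass.coe_inv, map_inv] at h1
      calc x' * ι c = (ι (p : X))⁻¹ * (x * ι c * x⁻¹) * x := by rw [hx']; group
        _ = (ι (p : X))⁻¹ * (ι (p : X) * ι c * (ι (p : X))⁻¹) * x := by rw [h1]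
        _ = ι c * x' := by rw [hx']; group
    have x'z : x' * ι z * x'⁻¹ = ι z := by rw [x'c z rfl]; group
    have x'tz : x' * (t * ι z) * x'⁻¹ = t := by
      calc x' * (t * ι z) * x'⁻¹ = (x' * t * x'⁻¹) * (x' * ι z * x'⁻¹) := by group
        _ = t := by rw [x't, x'z, mul_assoc, hzz, mul_one]
    have h1 : (x' * x') * t = t * (x' * x') := by
      calc (x' * x') * t = x' * (x' * t * x'⁻¹) * x' := by group
        _ = (x' * (t * ι z) * x'⁻¹) * (x' * x') := by rw [x't]; group
        _ = t * (x' * x') := by rw [x'tz]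
    obtain ⟨w, hw⟩ := h.spl _ h1
    have hwc : ∀ c, c * z = z * c → c * w = w * c := by
      intro c hc
      have h2 : (x' * x') * ι c = ι c * (x' * x') := by
        calc (x' * x') * ι c = x' * (x' * ι c) := by group
          _ = (x' * ι c) * x' := by rw [x'c c hc]; exact (mul_assoc _ _ _).symm.trans (by rw [x'c c hc])
          _ = ι c * (x' * x') := by rw [x'c c hc]; group
      apply h.inj
      rw [map_mul, map_mul]
      rcases hw with hw | hw
      · rw [hw] at h2
        exact h2.symm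
      · rw [hw] at h2
        have h3 := h.ct c
        have h4 : t * (ι c * ι w) = t * (ι w * ι c) := by
          calc t * (ι c * ι w) = (ι c * t) * ι w := by rw [h3]; group
            _ = ι c * (t * ι w) := by group
            _ = t * ι w * ι c := h2.symm
            _ = t * (ι w * ι c) := by group
        exact mul_left_cancel h4
    have hwz := F.cP w (hwc z rfl).symm hwc
    have hcomm : x' * (x' * x') * x'⁻¹ = x' * x' := by group
    have htne : t * ι z ≠ t := fun e => hz1 (mul_left_cancel (by rw [e, mul_one]))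
    have key : x' * x' = 1 ∨ x' * x' = ι z := by
      rcases hw with hw | hw
      · rcases hwz with rfl | rfl
        · left; rw [hw, map_one]
        · right; exact hw
      · exfalso
        rcases hwz with rfl | rfl
        · rw [map_one, mul_one] at hw
          rw [hw, x't] at hcomm
          exact htne hcomm
        · rw [hw, x'tz] at hcomm
          exact htne hcomm.symm
    rcases key with key | key
    · exact ⟨x', key, x't, x'c⟩
    · refine ⟨t * x', ?_, ?_, ?_⟩
      · calc t * x' * (t * x') = t * (x' * t * x'⁻¹) * (x' * x') := by group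
          _ = (t * t) * (ι z * ι z) := by rw [x't, key]; group
          _ = 1 := by rw [h.tt, hzz, mul_one]
      · have h2 := h.ct z
        have h3 : t⁻¹ = t := inv_eq_of_mul_eq_one_left h.tt
        calc t * x' * t * (t * x')⁻¹ = t * (x' * t * x'⁻¹) * t⁻¹ := by group
          _ = t * (t * (ι z * t)) := by rw [x't, h3]; group
          _ = t * (t * t * ι z) := by rw [h2]; group
          _ = t * ι z := by rw [h.tt, one_mul]
      · intro c hc
        calc t * x' * ι c = t * (x' * ι c) := by group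
          _ = (t * ι c) * x' := by rw [x'c c hc]; group
          _ = ι c * (t * x') := by rw [← h.ct c]; group
  · -- `β` swaps `E`, `E₂`
    exfalso
    obtain ⟨b₀, hb₀E, hb₀1, hb₀z⟩ := F.ex
    have hβ1 : ∀ c : centralizer ({z} : Set X), (β c : X) = 1 → (c : X) = 1 := by
      intro c hc
      have h1 : β c = 1 := Subtype.ext hc
      have h2 : c = 1 := β.injective (by rw [h1, map_one])
      rw [h2]; rfl
    have hβz' : β ⟨z, hmem.2 rfl⟩ = ⟨z, hmem.2 rfl⟩ := by
      apply Subtype.ext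
      apply h.inj
      rw [← hβ]
      exact xz
    have hβz : ∀ c : centralizer ({z} : Set X), (β c : X) = z → (c : X) = z := by
      intro c hc
      have h1 : β c = ⟨z, hmem.2 rfl⟩ := Subtype.ext hc
      have h2 : c = ⟨z, hmem.2 rfl⟩ := β.injective (by rw [h1, hβz'])
      rw [h2]
    let b₀' : centralizer ({z} : Set X) := ⟨b₀, hmem.2 (F.cE _ hb₀E)⟩
    let c := β b₀'
    let b := β c
    have hcE : (c : X) ∈ E₂ := hE b₀' hb₀E
    have hbE : (b : X) ∈ E := hE' c hcE
    have hc1 : (c : X) ≠ 1 := fun e => hb₀1 (hβ1 b₀' e)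
    have hcz : (c : X) ≠ z := fun e => hb₀z (hβz b₀' e)
    have hb1 : (b : X) ≠ 1 := fun e => hc1 (hβ1 c e)
    have hbz : (b : X) ≠ z := fun e => hcz (hβz c e)
    have hbE₂ : ((β b : centralizer ({z} : Set X)) : X) ∈ E₂ := hE b hbE
    have hxc : x * ι (c : X) * x⁻¹ = ι (b : X) := hβ c
    have hxb : x * ι (b : X) * x⁻¹ = ι (β b : X) := hβ b
    obtain ⟨k₂, hk₂z, hk₂c⟩ := F.rot₂ _ hcE hc1 hcz
    obtain ⟨k, hkz, hkb⟩ := F.rot _ hbE hb1 hbz
    have hbcz : (b : X) * z = z * b := F.cE _ hbE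
    -- images in `G`
    set Z := ι z with hZ
    set B := ι (b : X) with hB
    set C := ι (c : X) with hC
    set A := ι k with hA
    set A₂ := ι k₂ with hA₂
    have BZ : B * Z = Z * B := by rw [hB, hZ, ← map_mul, hbcz, map_mul]
    have BB : B * B = 1 := by
      have h1 : (b : X) * b = 1 := by
        rw [← hkz]
        calc k * z * k⁻¹ * (k * z * k⁻¹) = k * (z * z) * k⁻¹ := by group
          _ = 1 := by rw [F.zz]; group
      rw [hB, ← map_mul, h1, map_one]
    have AZ : A * Z * A⁻¹ = B := by rw [hA, hZ, hB, ← hkz, map_mul, map_mul, map_inv]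
    have AB : A * B * A⁻¹ = Z * B := by
      rw [hA, hZ, hB, ← map_mul ι z, ← hkb, map_mul, map_mul, map_inv]
    have A₂Z : A₂ * Z * A₂⁻¹ = C := by rw [hA₂, hZ, hC, ← hk₂z, map_mul, map_mul, map_inv]
    have A₂C : A₂ * C * A₂⁻¹ = Z * C := by
      rw [hA₂, hZ, hC, ← map_mul ι z, ← hk₂c, map_mul, map_mul, map_inv]
    have At : A * t * A⁻¹ = t := by rw [hA, h.ct, mul_inv_cancel_right]
    have A₂t : A₂ * t * A₂⁻¹ = t := by rw [hA₂, h.ct, mul_inv_cancel_right]
    have xZB : x * (Z * C) * x⁻¹ = Z * B := by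
      calc x * (Z * C) * x⁻¹ = (x * Z * x⁻¹) * (x * C * x⁻¹) := by group
        _ = Z * B := by rw [xz, hxc]
    -- `H = x A₂ x⁻¹`
    set H : G := x * A₂ * x⁻¹ with hH
    have HZ : H * Z * H⁻¹ = B := by
      calc H * Z * H⁻¹ = x * (A₂ * (x⁻¹ * Z * x) * A₂⁻¹) * x⁻¹ := by rw [hH]; group
        _ = B := by rw [xz', A₂Z, hxc]
    have HB : H * B * H⁻¹ = Z * B := by
      calc H * B * H⁻¹ = H * (x * C * x⁻¹) * H⁻¹ := by rw [hxc]
        _ = x * (A₂ * C * A₂⁻¹) * x⁻¹ := by rw [hH]; group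
        _ = Z * B := by rw [A₂C, xZB]
    have Ht : H * t * H⁻¹ = t * (Z * B) := by
      calc H * t * H⁻¹ = x * (A₂ * (x⁻¹ * t * x) * A₂⁻¹) * x⁻¹ := by rw [hH]; group
        _ = x * ((A₂ * t * A₂⁻¹) * (A₂ * Z * A₂⁻¹)) * x⁻¹ := by rw [xt']; group
        _ = (x * t * x⁻¹) * (x * C * x⁻¹) := by rw [A₂t, A₂Z]; group
        _ = t * (Z * B) := by rw [xt, hxc]; group
    -- `A⁻¹`
    have A'B : A⁻¹ * B * A = Z := by rw [← AZ]; group
    have A'Z : A⁻¹ * Z * A = Z * B := by
      calc A⁻¹ * Z * A = A⁻¹ * (Z * B * B) * A := by rw [mul_assoc Z, BB, mul_one]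
        _ = A⁻¹ * ((A * B * A⁻¹) * (A * Z * A⁻¹)) * A := by rw [AB, AZ]
        _ = B * Z := by group
        _ = Z * B := BZ
    have A't : A⁻¹ * t * A = t := by rw [mul_assoc, hA, ← h.ct, inv_mul_cancel_left]
    -- `M' = H A⁻¹`
    have M'Z : (H * A⁻¹) * Z * (H * A⁻¹)⁻¹ = Z := by
      calc (H * A⁻¹) * Z * (H * A⁻¹)⁻¹ = H * (A⁻¹ * Z * A) * H⁻¹ := by group
        _ = (H * Z * H⁻¹) * (H * B * H⁻¹) := by rw [A'Z]; group
        _ = (B * Z) * B := by rw [HZ, HB]; group
        _ = Z * (B * B) := by rw [BZ]; group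
        _ = Z := by rw [BB, mul_one]
    have M'B : (H * A⁻¹) * B * (H * A⁻¹)⁻¹ = B := by
      calc (H * A⁻¹) * B * (H * A⁻¹)⁻¹ = H * (A⁻¹ * B * A) * H⁻¹ := by group
        _ = B := by rw [A'B, HZ]
    have M't : (H * A⁻¹) * t * (H * A⁻¹)⁻¹ = t * (Z * B) := by
      calc (H * A⁻¹) * t * (H * A⁻¹)⁻¹ = H * (A⁻¹ * t * A) * H⁻¹ := by group
        _ = t * (Z * B) := by rw [A't, Ht]
    -- `M = A M' A⁻¹`
    set M : G := A * (H * A⁻¹) * A⁻¹ with hM
    have Mt : M * t * M⁻¹ = t * Z := by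
      calc M * t * M⁻¹ = A * ((H * A⁻¹) * (A⁻¹ * t * A) * (H * A⁻¹)⁻¹) * A⁻¹ := by
            rw [hM]; simp only [mul_assoc, mul_inv_rev, inv_inv, inv_mul_cancel_left]
        _ = (A * t * A⁻¹) * ((A * Z * A⁻¹) * (A * B * A⁻¹)) := by rw [A't, M't]; group
        _ = t * ((B * Z) * B) := by rw [At, AZ, AB]; group
        _ = t * Z := by rw [BZ, mul_assoc Z, BB, mul_one]
    have MB : M * B * M⁻¹ = B := by
      calc M * B * M⁻¹ = A * ((H * A⁻¹) * (A⁻¹ * B * A) * (H * A⁻¹)⁻¹) * A⁻¹ := by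
            rw [hM]; simp only [mul_assoc, mul_inv_rev, inv_inv, inv_mul_cancel_left]
        _ = B := by rw [A'B, M'Z, AZ]
    have MZ : M * Z * M⁻¹ = Z := by
      calc M * Z * M⁻¹ = A * ((H * A⁻¹) * (A⁻¹ * Z * A) * (H * A⁻¹)⁻¹) * A⁻¹ := by
            rw [hM]; simp only [mul_assoc, mul_inv_rev, inv_inv, inv_mul_cancel_left]
        _ = A * (((H * A⁻¹) * Z * (H * A⁻¹)⁻¹) * ((H * A⁻¹) * B * (H * A⁻¹)⁻¹)) * A⁻¹ := by
            rw [A'Z]; group
        _ = (A * Z * A⁻¹) * (A * B * A⁻¹) := by rw [M'Z, M'B]; group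
        _ = (B * Z) * B := by rw [AZ, AB]; group
        _ = Z := by rw [BZ, mul_assoc, BB, mul_one]
    have M't2 : M⁻¹ * t * M = t * Z := by
      calc M⁻¹ * t * M = M⁻¹ * (t * Z * Z) * M := by rw [mul_assoc t, hzz, mul_one]
        _ = M⁻¹ * ((M * t * M⁻¹) * (M * Z * M⁻¹)) * M := by rw [Mt, MZ]
        _ = t * Z := by group
    have M'Z2 : M⁻¹ * Z * M = Z := by
      calc M⁻¹ * Z * M = M⁻¹ * (M * Z * M⁻¹) * M := by rw [MZ]
        _ = Z := by group
    have M'B2 : M⁻¹ * B * M = B := by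
      calc M⁻¹ * B * M = M⁻¹ * (M * B * M⁻¹) * M := by rw [MB]
        _ = B := by group
    -- `x M⁻¹` centralises `t` and `z`
    have Nt : (x * M⁻¹) * t = t * (x * M⁻¹) := by
      calc (x * M⁻¹) * t = x * (M⁻¹ * t * M) * M⁻¹ := by group
        _ = ((x * t * x⁻¹) * (x * Z * x⁻¹)) * (x * M⁻¹) := by rw [M't2]; group
        _ = t * (Z * Z) * (x * M⁻¹) := by rw [xt, xz]; group
        _ = t * (x * M⁻¹) := by rw [hzz, mul_one]
    have NZ : (x * M⁻¹) * Z = Z * (x * M⁻¹) := by
      calc (x * M⁻¹) * Z = x * (M⁻¹ * Z * M) * M⁻¹ := by group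
        _ = (x * Z * x⁻¹) * (x * M⁻¹) := by rw [M'Z2]; group
        _ = Z * (x * M⁻¹) := by rw [xz]
    have NB : (x * M⁻¹) * B * (x * M⁻¹)⁻¹ = ι (β b : X) := by
      calc (x * M⁻¹) * B * (x * M⁻¹)⁻¹ = x * (M⁻¹ * B * M) * x⁻¹ := by group
        _ = ι (β b : X) := by rw [M'B2, hxb]
    obtain ⟨p, hp⟩ := h.spl _ Nt
    have hpz : p * z = z * p := by
      apply h.inj
      rw [map_mul, map_mul]
      rcases hp with hp | hp
      · rw [hp] at NZ; exact NZ
      · rw [hp] at NZ
        have h3 := h.ct z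
        have h4 : t * (ι p * ι z) = t * (ι z * ι p) := by
          calc t * (ι p * ι z) = t * ι p * ι z := by group
            _ = ι z * (t * ι p) := NZ
            _ = (ι z * t) * ι p := by group
            _ = t * (ι z * ι p) := by rw [h3]; group
        exact mul_left_cancel h4
    have hpb : p * b * p⁻¹ = (β b : X) := by
      apply h.inj
      rw [map_mul, map_mul, map_inv, ← NB]
      rcases hp with hp | hp
      · rw [hp]
      · rw [hp]
        have h5 : t * (ι p * ι (b : X) * (ι p)⁻¹) = (ι p * ι (b : X) * (ι p)⁻¹) * t := by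
          have := h.ct (p * b * p⁻¹)
          rw [map_mul, map_mul, map_inv] at this
          exact this.symm
        calc ι p * ι (b : X) * (ι p)⁻¹ = (ι p * ι (b : X) * (ι p)⁻¹) * t * t⁻¹ := by group
          _ = t * (ι p * ι (b : X) * (ι p)⁻¹) * t⁻¹ := by rw [h5]
          _ = t * ι p * B * (t * ι p)⁻¹ := by rw [hB]; group
    have hfin := F.inf (β b : X) (by rw [← hpb]; exact F.nE p hpz _ hbE) hbE₂
    rcases hfin with e | e
    · exact hb1 (hβ1 b e)
    · exact hbz (hβz b e)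

end Abstract

section Main

universe u v

variable {X : Type v} {G : Type u} [Group X] [Group G] {K : Subgroup G} {t q : G} {z : X}

/-- all automorphisms of a group isomorphic to `X` are inner -/
theorem inner_of_equiv {K : Type*} [Group K] (e : X ≃* K)
    (inn : ∀ α : MulAut X, ∃ k, α = MulAut.conj k) (α : MulAut K) : ∃ k, α = MulAut.conj k := by
  obtain ⟨k, hk⟩ := inn ((e.trans α).trans e.symm)
  refine ⟨e k, ?_⟩
  ext y
  have h1 := congrArg (fun f : MulAut X => f (e.symm y)) hk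
  have h2 : e.symm (α (e (e.symm y))) = k * e.symm y * k⁻¹ := h1
  rw [e.apply_symm_apply] at h2
  have h3 := congrArg e h2
  rw [e.apply_symm_apply] at h3
  rw [h3]
  simp

/-- `C_G(t) = ⟨t⟩ × K` -/
theorem amb_of_start (st : Front.FE.Start K t q) (Q2 : ∀ y ∈ zpowers q, y = 1 ∨ y = t) (e : X ≃* K)
    (inn : ∀ α : MulAut X, ∃ k, α = MulAut.conj k) : Amb (K.subtype.comp e.toMonoidHom) t where
  inj := K.subtype_injective.comp e.injective
  tt := st.tt
  tι := by
    intro x h
    apply st.t1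
    refine st.cen t ?_ fun y hy => st.Kt y hy
    rw [← h]
    exact (e x).2
  ct x := st.Kt _ (e x).2
  spl := by
    intro g hg
    obtain ⟨k, hk⟩ := inner_of_equiv e inn (K.normalizerMonoidHom ⟨g, st.nK g hg⟩)
    have h2 := exists_of_conj (st.nK g hg) hk
    have hkt := st.Kt (k : G) k.2
    have h3 : (k : G)⁻¹ * g ∈ zpowers q := by
      apply st.cK
      · have h4 := st.Kt (k : G)⁻¹ (K.inv_mem k.2)
        calc (k : G)⁻¹ * g * t = (k : G)⁻¹ * (g * t) := by group
          _ = ((k : G)⁻¹ * t) * g := by rw [hg]; group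
          _ = t * ((k : G)⁻¹ * g) := by rw [h4]; group
      · exact h2
    refine ⟨e.symm k, ?_⟩
    have h5 : (K.subtype.comp e.toMonoidHom) (e.symm k) = (k : G) := by
      show ((e (e.symm k) : K) : G) = k
      rw [e.apply_symm_apply]
    rw [h5]
    rcases Q2 _ h3 with h | h
    · left
      exact (inv_mul_eq_one.1 h).symm
    · right
      rw [← hkt, ← h]
      group

/-- **Step 1** of the row `M24`. -/
theorem exists_fam {P : Subgroup K} {e : X ≃* K} (o : Out K t q (e z) P)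
    (hP : ∀ x : K, x * e z = e z * x → x ∈ P) (inn : ∀ α : MulAut X, ∃ k, α = MulAut.conj k)
    {E E₂ : Subgroup X} (F : FactsP z E E₂) :
    ∃ y, Fam (K.subtype.comp e.toMonoidHom) t z y := by
  have hA := amb_of_start o.emb.st o.Q2 e inn
  set ι := K.subtype.comp e.toMonoidHom with hι
  have hιe : ∀ x, ι x = ((e x : K) : G) := fun _ => rfl
  obtain ⟨x, -, hxt, hxz⟩ := o.swap
  have hmem : ∀ c, c * z = z * c → ι c ∈ P.map K.subtype := by
    intro c hc
    refine ⟨e c, hP _ ?_, rfl⟩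
    rw [← map_mul, hc, map_mul]
  have hback : ∀ g, g ∈ P.map K.subtype → ∃ c', c' * z = z * c' ∧ g = ι c' := by
    rintro _ ⟨p, hp, rfl⟩
    refine ⟨e.symm p, ?_, ?_⟩
    · apply e.injective
      rw [map_mul, map_mul, e.apply_symm_apply]
      exact o.emb.sh.cen p hp
    · rw [hιe, e.apply_symm_apply]
      rfl
  obtain ⟨y, h1, h2, h3⟩ := exists_one hA F hxt hxz
    (fun c hc => hback _ ((o.emb.conj_P_swap hxt hxz).1 (hmem c hc)))
    (fun c hc => hback _ ((o.emb.conj_P_swap hxt hxz).2 (by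
      have e1 : x * (x⁻¹ * ι c * x) * x⁻¹ = ι c := by group
      rw [e1]
      exact hmem c hc)))
  exact fam_of_one hA F.zz F.z1 o.ne h1 h2 h3

end Main

end Cfsg.Agent.OddHalf.M24.StepOne

end

-- merged: Cfsg.Agent.OddHalf.M24.Row
section

/-!
# ODD half, D8: the row `K = M24` from the facts about the group `M24` (helper785)

`kill`: the sign kill (helper121) applied to the doubled group `Q* = E* V*`. `row_of`: the row.
-/

set_option autoImplicit false

namespace Cfsg.Agent.OddHalf.M24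

open Subgroup Cfsg Cfsg.Agent.OddHalf.D8 Cfsg.Agent.OddHalf.D8.Front Cfsg.Agent.OddHalf.D8.GlueE
  Cfsg.Agent.OddHalf.D8.Sheet Cfsg.Agent.OddHalf.Front.FE

universe u

/-- facts about `R/Q`, `R = N_X(Q)` -/
structure FactsL {X : Type*} [Group X] (Q : Subgroup X) : Prop where
  good : ∃ (L0 : Type) (_ : Group L0) (ρ : normalizer (Q : Set X) →* L0), Function.Surjective ρ ∧
    (∀ r, ρ r = 1 ↔ (r : X) ∈ Q) ∧ SignKill.GoodL L0
  odd : Odd (normalizer (Q : Set X)).index

/-- facts about a Sylow 2-subgroup and `C_X(z)` -/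
structure FactsS {X : Type*} [Group X] (z : X) : Prop where
  syl : ∃ S : Sylow 2 X, z ∈ S ∧ (∀ x ∈ S, x * z = z * x) ∧
    ∀ y ∈ S, (∀ x ∈ S, x * y = y * x) → y = 1 ∨ y = z
  perf : ⁅centralizer ({z} : Set X), centralizer ({z} : Set X)⁆ = centralizer ({z} : Set X)

/-- all facts about `M24` -/
structure All (X : Type*) [Group X] : Prop where
  ex : ∃ (z : X) (E E₂ E' V : Subgroup X) (r s w w' : X), FactsP z E E₂ ∧ FactsE z E ∧
    FactsQ z E E' V r s w w' ∧ FactsL (E ⊔ V) ∧ FactsS z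
  inn : ∀ α : MulAut X, ∃ k, α = MulAut.conj k

/-- **the kill** -/
theorem kill {X G : Type*} [Group X] [Group G] [Finite G] {ι : X →* G} {t : G} {z : X} {y : X → G}
    {E E' V : Subgroup X} {r s w w' : X} (F : Fam ι t z y) (fE : FactsE z E)
    (fQ : FactsQ z E E' V r s w w') (fL : FactsL (E ⊔ V)) : ∃ f : G →* ℤˣ, f t = -1 := by
  have hfin : Finite X := Finite.of_injective ι F.inj
  have B := big F fE fQ
  obtain ⟨L0, _, ρ, hρ, hker, hL⟩ := fL.good
  have hnor : ∀ k : X, (∀ q ∈ E ⊔ V, k * q * k⁻¹ ∈ E ⊔ V) ↔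
      k ∈ normalizer ((E ⊔ V : Subgroup X) : Set X) := by
    intro k
    exact ⟨fun h => mem_normalizer_fintype h, fun h q hq => (mem_normalizer_iff.1 h q).1 hq⟩
  have hwn : ∀ {w : X}, y w ∈ normalizer (MM ι y E E' : Set G) → w ∈ Cl z →
      w ∈ normalizer ((E ⊔ V : Subgroup X) : Set X) := by
    intro w hw hC
    rw [← hnor, ← B.nor]
    have h1 : ι w = t⁻¹ * (y w * t * (y w)⁻¹) := by rw [F.yt w hC]; group
    rw [h1]
    exact mul_mem (inv_mem B.tM) (mul_mem (mul_mem hw B.tM) (inv_mem hw))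
  have hwC := fQ.tvw.wC
  have hw'C := fQ.tvw'.wC
  refine SignKill.main ι F.inj t F.tt F.ct F.tι F.spl (MM ι y E E') (E ⊔ V)
    (normalizer ((E ⊔ V : Subgroup X) : Set X)) B.tM ?_ B.le ?_ ?_ ρ hρ hker hL fL.odd w w'
    (hwn B.yw hwC) (hwn B.yw' hw'C) (F.sq hwC) (F.sq hw'C) fQ.wQ fQ.w'Q fQ.ww'Q fQ.ww' ?_
    (y w) (y w') B.yw B.yw' (F.yt w hwC) (F.ycomm hwC rfl).symm (F.ycomm hwC fQ.ww'.symm).symm
    (F.yt w' hw'C) (F.ycomm hw'C fQ.ww').symm (F.ycomm hw'C rfl).symm
  · intro m hm h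
    obtain ⟨q, hq, e⟩ := B.cen m hm h
    exact ⟨q, hq, e.symm⟩
  · intro m hm h
    exact B.inv m hm h
  · intro k
    rw [B.nor, hnor]
  · intro h
    obtain ⟨g, hg⟩ := isConj_iff.1 h
    obtain ⟨k, hk⟩ := hwC
    apply F.tz ((ι k)⁻¹ * g)
    calc (ι k)⁻¹ * g * t * ((ι k)⁻¹ * g)⁻¹ = (ι k)⁻¹ * (g * t * g⁻¹) * ι k := by group
      _ = ι z := by rw [hg, ← hk, map_mul, map_mul, map_inv]; group

/-- **the row `K = M24`** from the facts -/
theorem row_of (h : All Cfsg.M24) : Rows.Row.{u} (fun K _ => Spor.IsoM24 K) := by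
  intro G _ C K S hcyc hK
  have hfin := C.fin
  obtain ⟨e'⟩ := hK
  set e : Cfsg.M24 ≃* K := e'.symm with he
  obtain ⟨⟨z, E, E₂, E', V, r, s, w, w', fP, fE, fQ, fL, fS⟩, inn⟩ := h
  -- automorphisms of `K` are inner
  have innK : ∀ α : MulAut K, ∃ k, α = MulAut.conj k := by
    intro α
    obtain ⟨k, hk⟩ := inn ((e.trans α).trans e.symm)
    refine ⟨e k, ?_⟩
    ext1 x
    have h1 := DFunLike.congr_fun hk (e.symm x)
    have h2 : e.symm (α (e (e.symm x))) = k * e.symm x * k⁻¹ := h1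
    rw [e.apply_symm_apply] at h2
    have h3 := congrArg e h2
    rw [e.apply_symm_apply, map_mul, map_mul, map_inv, e.apply_symm_apply] at h3
    rw [h3, MulAut.conj_apply]
  have hrange : (MulAut.conj : K →* MulAut K).range = ⊤ := by
    rw [eq_top_iff]
    intro α _
    obtain ⟨k, hk⟩ := innK α
    exact ⟨k, hk.symm⟩
  have hz1 : e z ≠ 1 := fun e1 => fP.z1 (e.injective (by rw [e1, map_one]))
  set P : Subgroup K := (centralizer ({z} : Set Cfsg.M24)).map e.toMonoidHom with hP
  have hPc : P = centralizer ({e z} : Set K) := (SheetMap.centralizer_map e z).symm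
  have hB : Basic (e z) P :=
    { zz := by rw [← map_mul, fP.zz, map_one]
      z1 := hz1
      syl := SheetMap.syl_map e fS.syl
      zP := ⟨z, mem_centralizer_singleton_iff.2 rfl, rfl⟩
      cen := by
        intro x hx
        rw [hPc] at hx
        exact mem_centralizer_singleton_iff.1 hx
      perf := by rw [hP, ← map_commutator, fS.perf]
      der := ⟨0, by rw [TR.dser_zero, hPc]⟩
      out := by rw [hrange, index_top]; norm_num
      schreier := ⟨0, by rw [hrange]; exact le_top⟩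
      sylAut := fun _ _ α _ _ => innK α }
  have hcen : center ↥K = ⊥ := by
    rw [eq_bot_iff]
    intro x hx
    rw [mem_bot]
    have hx' : ∀ p, p * e.symm x = e.symm x * p := by
      intro p
      have h1 := mem_center_iff.1 hx (e p)
      have h2 := congrArg e.symm h1
      rwa [map_mul, map_mul, e.symm_apply_apply] at h2
    rcases fP.cP (e.symm x) (hx' z).symm (fun p _ => hx' p) with h1 | h1
    · have h2 := congrArg e h1
      rwa [e.apply_symm_apply, map_one] at h2
    · exfalso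
      obtain ⟨b, hb, hb1, hbz⟩ := fP.ex
      obtain ⟨k, hk, -⟩ := fP.rot b hb hb1 hbz
      apply hbz
      rw [← hk, ← h1, hx' k, mul_inv_cancel_right]
  obtain ⟨t, q, st⟩ := exists_start C S hcyc hcen
  have hE : Emb K t q (e z) P := ⟨st, hB⟩
  have o : Out K t q (e z) P := MainE.out_of_emb C hE
  obtain ⟨y, F⟩ := StepOne.exists_fam o (fun x hx => by
    rw [hPc]; exact mem_centralizer_singleton_iff.2 hx) inn fP
  obtain ⟨f, hf⟩ := kill F fE fQ fL
  have h1 := TR.Frame.hom_eq_one (index_ne_two C) f t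
  rw [hf] at h1
  exact absurd h1 (by decide)

end Cfsg.Agent.OddHalf.M24

end

-- merged: Cfsg.Agent.OddHalf.M24.FactsPM24
section

/-!
# `FactsP` for `X = M24` (helper269)

`z = X15`, `E = E1 = ⟨X12, X13, X14, X15⟩`, `E₂ = E2 = ⟨X15, X25, X35, X45⟩`.
-/

set_option autoImplicit false

namespace Cfsg.Agent.OddHalf.M24.FactsPM24

open Cfsg Cfsg.Agent.SporadicRecognition.HeldModel Cfsg.Agent.Held.AffineIso
  Cfsg.Agent.KFacts.TwoSix.Aut Cfsg.Agent.KFacts.TwoSix.U Cfsg.Agent.KFacts.TwoSix.SheetDef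
  Cfsg.Agent.KFacts.TwoSix.Sheet Cfsg.Agent.KFacts.TwoSix.M24
open Cfsg.Agent.KFacts.M24Pair.Letters (xx weqb weq ev ev_cons ev_nil)
open Cfsg.Agent.KFacts.M24Two.CentZ (z E1 E2 C)

theorem conj_eq {k j i : ℕ} {w : List ℕ} (h : weqb [k, j] (w ++ [k]) = true) (hw : ev w = xx i) :
    xx k * xx j * (xx k)⁻¹ = xx i := by
  have h1 := weq h
  rw [KFacts.M24Pair.Letters.ev_append, hw, ev_cons, ev_cons, ev_cons, ev_nil, mul_one, mul_one] at h1
  rw [h1, mul_inv_cancel_right]

theorem rot_of {E : Subgroup M24} {P R : Subgroup M24} (h : Half z P R E) {b₀ k₀ : M24}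
    (hb : b₀ ∈ E) (h1 : b₀ ≠ 1) (hz : b₀ ≠ z) (hk : k₀ * z * k₀⁻¹ = b₀) (hk' : k₀ * b₀ * k₀⁻¹ = z * b₀)
    (hP : ∀ p ∈ P, p * z = z * p) (b : M24) (hbE : b ∈ E) (hb1 : b ≠ 1) (hbz : b ≠ z) :
    ∃ k, k * z * k⁻¹ = b ∧ k * b * k⁻¹ = z * b := by
  obtain ⟨p, hp, e⟩ := h.trans b₀ hb h1 hz b hbE hb1 hbz
  have hpz : p * z * p⁻¹ = z := by rw [hP p hp, mul_inv_cancel_right]
  have hpz' : p⁻¹ * z * p = z := by rw [mul_assoc, ← hP p hp, inv_mul_cancel_left]
  have e' : p⁻¹ * b * p = b₀ := by rw [← e]; group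
  refine ⟨p * k₀ * p⁻¹, ?_, ?_⟩
  · calc p * k₀ * p⁻¹ * z * (p * k₀ * p⁻¹)⁻¹ = p * (k₀ * (p⁻¹ * z * p) * k₀⁻¹) * p⁻¹ := by group
      _ = b := by rw [hpz', hk, e]
  · calc p * k₀ * p⁻¹ * b * (p * k₀ * p⁻¹)⁻¹ = p * (k₀ * (p⁻¹ * b * p) * k₀⁻¹) * p⁻¹ := by group
      _ = (p * z * p⁻¹) * (p * b₀ * p⁻¹) := by rw [e', hk']; group
      _ = z * b := by rw [hpz, e]

theorem xx_ne {i j : ℕ} (h : (List.range 24).any (fun a =>
    !(Nat.beq (SporadicA.GolayPerm.papp (SporadicStructure.M24El.prodW KFacts.M24Pair.Letters.gx [i]) a)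
      (SporadicA.GolayPerm.papp (SporadicStructure.M24El.prodW KFacts.M24Pair.Letters.gx [j]) a))) = true) :
    xx i ≠ xx j := by
  have h1 := KFacts.M24Pair.Letters.wne h
  rwa [ev_cons, ev_nil, mul_one, ev_cons, ev_nil, mul_one] at h1

/-- **the facts about `P = C(z)` for `M24`** -/
theorem factsP : FactsP z E1 E2 := by
  obtain ⟨f, hf, hx⟩ := exists_f
  have hS := sheet_of hf.inj
  rw [im_R1 hx, im_R2 hx, hf.map_zz] at hS
  have hr : ∀ {p : M24}, p ∈ f.range ↔ p * z = z * p := by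
    intro p
    rw [hf.range, Subgroup.mem_centralizer_singleton_iff]
  have hP : ∀ p ∈ f.range, p * z = z * p := fun p hp => hr.1 hp
  have hE1 : ∀ e ∈ E1, e * z = z * e := fun e he => hP e (hS.RP (hS.h1.ER he))
  have hE2 : ∀ e ∈ E2, e * z = z * e := fun e he => hP e (hS.RP (hS.h2.ER he))
  have m2 : xx 2 ∈ E1 := KFacts.M24Two.CentZ.xx_mem (by decide)
  have m6 : xx 6 ∈ E2 := KFacts.M24Two.CentZ.xx_mem (by decide)
  have n2 : xx 2 ≠ 1 := KFacts.M24Pair.Letters.X_ne_one (i := 1) (j := 4) (by norm_num)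
  have n6 : xx 6 ≠ 1 := KFacts.M24Pair.Letters.X_ne_one (i := 2) (j := 5) (by norm_num)
  have nz2 : xx 2 ≠ z := xx_ne (i := 2) (j := 3) (by decide +kernel)
  have nz6 : xx 6 ≠ z := xx_ne (i := 6) (j := 3) (by decide +kernel)
  have c14 : xx 14 * z * (xx 14)⁻¹ = xx 2 := conj_eq (k := 14) (j := 3) (w := [2]) (by decide +kernel)
    (by rw [ev_cons, ev_nil, mul_one])
  have c14' : xx 14 * xx 2 * (xx 14)⁻¹ = z * xx 2 := by
    have h1 := weq (u := [14, 2]) (v := [3, 2, 14]) (by decide +kernel)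
    simp only [ev_cons, ev_nil, mul_one] at h1
    rw [h1, ← mul_assoc, mul_inv_cancel_right]
    rfl
  have c12 : xx 12 * z * (xx 12)⁻¹ = xx 6 := conj_eq (k := 12) (j := 3) (w := [6]) (by decide +kernel)
    (by rw [ev_cons, ev_nil, mul_one])
  have c12' : xx 12 * xx 6 * (xx 12)⁻¹ = z * xx 6 := by
    have h1 := weq (u := [12, 6]) (v := [3, 6, 12]) (by decide +kernel)
    simp only [ev_cons, ev_nil, mul_one] at h1
    rw [h1, ← mul_assoc, mul_inv_cancel_right]
    rfl
  -- the isomorphism `CC ≃* C(z)`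
  let e : CC ≃* Subgroup.centralizer ({z} : Set M24) :=
    (MonoidHom.ofInjective hf.inj).trans (MulEquiv.subgroupCongr hf.range)
  have he : ∀ u : CC, ((e u : Subgroup.centralizer ({z} : Set M24)) : M24) = f u := fun _ => rfl
  have hm1 : ∀ u : CC, (f u ∈ E1 ↔ (u : L5) ∈ R1) := fun u => by rw [← im_R1 hx, f_mem_im hf.inj]
  have hm2 : ∀ u : CC, (f u ∈ E2 ↔ (u : L5) ∈ R2) := fun u => by rw [← im_R2 hx, f_mem_im hf.inj]
  let b (β : MulAut (Subgroup.centralizer ({z} : Set M24))) : CC ≃* CC := (e.trans β).trans e.symm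
  have hb : ∀ (β : MulAut (Subgroup.centralizer ({z} : Set M24))) (u : CC), e (b β u) = β (e u) :=
    fun β u => e.apply_symm_apply _
  have hfb : ∀ (β : MulAut (Subgroup.centralizer ({z} : Set M24))) (u : CC),
      f (b β u) = (β (e u) : Subgroup.centralizer ({z} : Set M24)) :=
    fun β u => congrArg Subtype.val (hb β u)
  refine ⟨KFacts.M24Two.CentZ.zz, KFacts.M24Two.CentZ.z_ne, hS.h1.zE, hS.h2.zE, ?_, hE1, hE2,
    fun p hp e he => hS.h1.norE p (hr.2 hp) e he, fun p hp e he => hS.h2.norE p (hr.2 hp) e he,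
    hS.inter, ⟨xx 2, m2, n2, nz2⟩, rot_of hS.h1 m2 n2 nz2 c14 c14' hP, rot_of hS.h2 m6 n6 nz6 c12 c12' hP,
    ?_, ?_⟩
  · intro c hc hcc
    apply hS.cR c (hr.2 hc)
    intro r hr'
    exact (hcc r (hP r (hS.RP hr'))).symm
  · intro β
    rcases aut_cases (b β) with h | h
    · left
      intro a ha
      obtain ⟨u, rfl⟩ := e.surjective a
      rw [← hfb, hm1]
      exact h u ((hm1 u).1 ha)
    · right
      obtain ⟨p, hp⟩ := aut_outer (b β) h
      refine ⟨?_, ?_⟩
      · intro a ha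
        obtain ⟨u, rfl⟩ := e.surjective a
        rw [← hfb, hm2]
        exact h u ((hm1 u).1 ha)
      · intro a ha
        obtain ⟨u, rfl⟩ := e.surjective a
        rw [← hfb, hm1, hp]
        have h2 : ((tauE u : CC) : L5) ∈ R1 := tau_mem_R1 ((hm2 u).1 ha)
        exact KFacts.TwoSix.Facts.norm_R1 p.2 h2
  · intro β h
    obtain ⟨p, hp⟩ := aut_inner (b β) (by
      intro u hu
      rw [← hm1, hfb]
      exact h (e u) ((hm1 u).2 hu))
    refine ⟨e p, ?_⟩
    ext1 a
    obtain ⟨u, rfl⟩ := e.surjective a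
    rw [← hb, hp, map_mul, map_mul, map_inv]
    rfl

end Cfsg.Agent.OddHalf.M24.FactsPM24

end

-- merged: Cfsg.Agent.KFacts.M24Two.Join
section

/-!
# The facts about the octad group in the notation of `KFacts/M24Pair/Sub`

`cl_eq_gen : CentZ.cl ls = Sub.gen ls`; `factsE : FactsE (xx 3) (Sub.gen [0, 1, 2, 3])`.
-/

set_option autoImplicit false

namespace Cfsg.Agent.KFacts.M24Two.Join

open Cfsg Cfsg.Agent.KFacts.M24Pair.Letters Cfsg.Agent.OddHalf.M24 Cfsg.Agent.KFacts.M24Pair

theorem cl_eq_gen (ls : List ℕ) : CentZ.cl ls = Sub.gen ls := rfl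

theorem factsE : FactsE (xx 3) (Sub.gen [0, 1, 2, 3]) := Octad.factsE

end Cfsg.Agent.KFacts.M24Two.Join

end

-- merged: Cfsg.Agent.KFacts.M24Pair.Pairs
section

/-!
# Double centralizers `C_K(C_K(u, v))` of the fifteen pairs of root involutions of the sextet
  group of `K = M24`

`dc_ij_kl`: an element commuting with `C_K(X i j, X k l)` is one of the words of the list (numbers
  of letters as in
`Letters`: `12 13 14 15 23 24 25 34 35 45 = 0 … 9`).
-/

set_option autoImplicit false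
set_option Elab.async false

namespace Cfsg.Agent.KFacts.M24Pair.Pairs

open Cfsg Cfsg.Agent.KFacts.M24Pair.Cent Cfsg.Agent.KFacts.M24Pair.Letters

/-- `|C_K(X14, X24)| = 1536`, double centralizer of order 4 -/
theorem dc_14_24 (g : M24) (hg : ∀ c : M24, (∀ r ∈ [2, 5], c * xx r = xx r * c) → c * g = g * c) :
    ∃ w ∈ ([[], [2], [5], [2, 5]] : List (List ℕ)), g = ev w :=
  dcent (rs := [2, 5])
    (cs := [55304136311909640904730284063359074, 52825043126367379332794399243537975,
      221550000398041140433562809009233347])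
    (data := [(17, [[0], [1, 0, 1, 1]]), (4, [[0], [1, 1]]), (7, [[0, 1]])])
    (wd := [(0, [1]), (0, [0, 1, 1]), (0, [2]), (0, [2, 1]), (1, []), (0, [2, 1, 1]), (2, [0, 0]),
      (2, []), (1, [0, 2, 1]), (1, [1]), (1, [1, 0, 2, 1]), (2, [2]), (2, [2, 0]), (2, [1, 0]),
      (0, [2, 0, 1, 1]), (2, [0]), (2, [1]), (0, []), (1, [2]), (1, [2, 1]), (2, [1, 2]), (1, [0,
      2]), (1, [1, 0, 2]), (0, [1, 1])])
    (by decide +kernel) (by decide +kernel) g hg

/-- `|C_K(X14, X34)| = 1536`, double centralizer of order 4 -/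
theorem dc_14_34 (g : M24) (hg : ∀ c : M24, (∀ r ∈ [2, 7], c * xx r = xx r * c) → c * g = g * c) :
    ∃ w ∈ ([[], [2], [7], [2, 7]] : List (List ℕ)), g = ev w :=
  dcent (rs := [2, 7])
    (cs := [361805428277256837041199500183110242, 595395404724668814097399257030510739,
      445571626547293446331232826825581572])
    (data := [(19, [[0, 2]]), (21, [[1], [2, 2]]), (6, [[1, 0]])])
    (wd := [(0, [2, 2]), (0, [2]), (0, [2, 0]), (1, [0, 2]), (0, [1, 2]), (0, [0]), (2, []), (2,
      [0, 0]), (1, [2]), (0, [1, 0]), (1, [2, 0]), (2, [2]), (2, [1]), (2, [0]), (1, [1, 0]), (2,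
      [1, 1]), (2, [0, 1]), (1, [0, 1, 0]), (0, [0, 0]), (0, []), (2, [0, 0, 0]), (1, []), (1, [1,
      2, 0]), (1, [0])])
    (by decide +kernel) (by decide +kernel) g hg

/-- `|C_K(X14, X15)| = 1536`, double centralizer of order 4 -/
theorem dc_14_15 (g : M24) (hg : ∀ c : M24, (∀ r ∈ [2, 3], c * xx r = xx r * c) → c * g = g * c) :
    ∃ w ∈ ([[], [2], [3], [2, 3]] : List (List ℕ)), g = ev w :=
  dcent (rs := [2, 3])
    (cs := [802554668251051511072699742766587427, 876785257613687273634587780546040833,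
      18314632312124139596489460217352809])
    (data := [(9, [[1]]), (7, [[0], [1, 2]])])
    (wd := [(0, [1, 0]), (0, [0]), (0, [1, 2, 0, 0]), (0, [0, 1, 0]), (0, [0, 0, 0]), (0, [2, 0,
      0]), (1, [0, 1]), (1, []), (0, [2]), (0, []), (0, [0, 1, 0, 0]), (1, [1, 1]), (1, [2]), (1,
      [2, 1, 1]), (0, [1, 0, 2]), (1, [1]), (1, [2, 0, 1]), (0, [0, 0]), (0, [2, 2, 0, 0]), (0,
      [2, 0]), (1, [2, 1]), (0, [0, 2]), (0, [1, 0, 0]), (0, [2, 2])])
    (by decide +kernel) (by decide +kernel) g hg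

/-- `|C_K(X14, X25)| = 256`, double centralizer of order 16 -/
theorem dc_14_25 (g : M24) (hg : ∀ c : M24, (∀ r ∈ [2, 6], c * xx r = xx r * c) → c * g = g * c) :
    ∃ w ∈ ([[], [2], [3], [5], [6], [2, 3], [2, 5], [2, 6], [3, 6], [5, 3], [5, 6], [2, 3, 6], [2,
      5, 3], [2, 5, 6], [5, 3, 6], [2, 5, 3, 6]] : List (List ℕ)), g = ev w :=
  dcent (rs := [2, 6])
    (cs := [587517099081542235959418224932062277, 734314006698834082329304983377741856,
      231447989518859766728274234199543255, 13313603386121538832581796834643415])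
    (data := [(0, [[1], [0, 0]]), (4, [[1], [3, 0, 0]]), (7, [[2]])])
    (wd := [(0, []), (0, [3, 0, 2]), (0, [2, 0, 2]), (0, [0, 2, 0]), (1, []), (0, [0]), (2, [1,
      0]), (2, []), (1, [1, 0]), (1, [3]), (1, [0]), (2, [0, 0]), (2, [0]), (2, [0, 1]), (0, [0,
      2]), (2, [3]), (2, [3, 0]), (0, [2, 0]), (1, [0, 1, 0]), (1, [2, 0]), (2, [1]), (1, [3, 1,
      0]), (1, [3, 0]), (0, [2])])
    (by decide +kernel) (by decide +kernel) g hg

/-- `|C_K(X14, X35)| = 256`, double centralizer of order 16 -/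
theorem dc_14_35 (g : M24) (hg : ∀ c : M24, (∀ r ∈ [2, 8], c * xx r = xx r * c) → c * g = g * c) :
    ∃ w ∈ ([[], [2], [3], [7], [8], [2, 3], [2, 7], [2, 8], [3, 8], [7, 3], [7, 8], [2, 3, 8], [2,
      7, 3], [2, 7, 8], [7, 3, 8], [2, 7, 3, 8]] : List (List ℕ)), g = ev w :=
  dcent (rs := [2, 8])
    (cs := [419859825746271581900108805936204083, 968697531846493914309070461010542754,
      966198954143347485228559928938038341, 350620917167656781188577361890280517])
    (data := [(0, [[3, 2]]), (3, [[1], [2]]), (11, [[2], [0, 2, 0]])])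
    (wd := [(0, []), (0, [2, 1]), (0, [1]), (1, []), (0, [3, 0]), (0, [2]), (2, [3]), (2, [1, 0]),
      (1, [2, 0]), (0, [3, 2, 0]), (1, [1, 0]), (2, []), (2, [3, 1]), (2, [1, 3]), (1, [3, 0]),
      (2, [3, 0]), (2, [1]), (1, [3, 1, 0]), (0, [2, 0]), (0, [0]), (2, [0]), (1, [3]), (1, [0]),
      (1, [0, 1, 0])])
    (by decide +kernel) (by decide +kernel) g hg

/-- `|C_K(X24, X34)| = 128`, double centralizer of order 8 -/
theorem dc_24_34 (g : M24) (hg : ∀ c : M24, (∀ r ∈ [5, 7], c * xx r = xx r * c) → c * g = g * c) :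
    ∃ w ∈ ([[], [2], [5], [7], [2, 5], [2, 7], [5, 7], [2, 5, 7]] : List (List ℕ)), g = ev w :=
  dcent (rs := [5, 7])
    (cs := [983548720921252936276249910206105632, 592822236182319764221558556001342529,
      735576586691787595084139092932756549, 138464377686185594708082106663928837])
    (data := [(0, [[0], [3, 1], [1, 2]]), (17, [[0], [3]]), (4, [[2], [3, 0]]), (6, [[2, 0], [3,
      1, 0]]), (8, [[2], [3]])])
    (wd := [(0, []), (0, [1]), (0, [1, 1]), (1, [3, 1]), (2, []), (0, [2]), (3, []), (3, [1, 0]),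
      (4, []), (2, [1, 0]), (4, [0]), (3, [3, 0]), (3, [1, 3]), (3, [0]), (1, [1, 1]), (3, [3,
      3]), (3, [3]), (1, []), (2, [3]), (2, [0]), (3, [1]), (4, [1, 0]), (4, [3, 0]), (1, [1])])
    (by decide +kernel) (by decide +kernel) g hg

/-- `|C_K(X24, X15)| = 256`, double centralizer of order 16 -/
theorem dc_24_15 (g : M24) (hg : ∀ c : M24, (∀ r ∈ [5, 3], c * xx r = xx r * c) → c * g = g * c) :
    ∃ w ∈ ([[], [2], [3], [5], [6], [2, 3], [2, 5], [2, 6], [3, 6], [5, 3], [5, 6], [2, 3, 6], [2,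
      5, 3], [2, 5, 6], [5, 3, 6], [2, 5, 3, 6]] : List (List ℕ)), g = ev w :=
  dcent (rs := [5, 3])
    (cs := [54851603042850529168371510442909219, 734325377188937150002263448610078882,
      47516231423943683769815067199200803, 218490083647402982823691911264516209])
    (data := [(0, [[0, 1, 0], [2, 1, 0]]), (4, [[0, 0], [3, 0]]), (6, [[2]])])
    (wd := [(0, []), (0, [3, 0]), (0, [1]), (0, [0]), (1, []), (0, [0, 0]), (2, []), (2, [1, 0]),
      (1, [2, 1]), (1, [1]), (1, [2, 0]), (2, [0]), (2, [0, 1, 3]), (2, [1]), (0, [1, 0]), (2, [0,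
      1, 0]), (2, [1, 3]), (0, [3]), (1, [0]), (1, [1, 0]), (2, [3]), (1, [2]), (1, [1, 2]), (0,
      [0, 1])])
    (by decide +kernel) (by decide +kernel) g hg

/-- `|C_K(X24, X25)| = 1536`, double centralizer of order 4 -/
theorem dc_24_25 (g : M24) (hg : ∀ c : M24, (∀ r ∈ [5, 6], c * xx r = xx r * c) → c * g = g * c) :
    ∃ w ∈ ([[], [5], [6], [5, 6]] : List (List ℕ)), g = ev w :=
  dcent (rs := [5, 6])
    (cs := [856177145559813581873271176696448750, 982967457311033500861400341585965542,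
      563733438645094872361546140296401264])
    (data := [(14, [[1], [2, 1, 0, 0]]), (19, [[1], [0, 1, 2]])])
    (wd := [(0, [0, 0, 0]), (0, [1, 0]), (0, [1, 1, 2]), (0, [0, 1, 1, 0, 0]), (1, [0, 2]), (0,
      [1, 1, 0, 0]), (0, [2, 2, 0]), (0, [0]), (1, [2]), (1, [2, 0]), (1, [0, 0, 2]), (0, [1, 0,
      0]), (0, [2]), (0, [0, 0]), (0, []), (0, [1, 1, 0]), (0, [1, 2]), (0, [2, 0]), (1, [0, 0]),
      (1, []), (0, [0, 0, 1, 0]), (1, [0]), (1, [1, 2]), (0, [0, 1, 0])])
    (by decide +kernel) (by decide +kernel) g hg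

/-- `|C_K(X24, X35)| = 128`, double centralizer of order 8 -/
theorem dc_24_35 (g : M24) (hg : ∀ c : M24, (∀ r ∈ [5, 8], c * xx r = xx r * c) → c * g = g * c) :
    ∃ w ∈ ([[], [5], [8], [5, 8], [2, 7, 3, 6], [2, 5, 7, 3, 6], [2, 7, 3, 6, 8], [2, 5, 7, 3, 6,
      8]] : List (List ℕ)), g = ev w :=
  dcent (rs := [5, 8])
    (cs := [966182495608011597979346698634378445, 594856635887919976957034139183789455,
      734318663824161615662852924535936001, 152776707554988253945882190966144205])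
    (data := [(0, [[1, 1], [0, 2, 0]]), (3, [[0], [1, 2]]), (9, [[0], [3, 1]]), (7, [[1, 0], [2,
      0]]), (8, [[3], [1, 0]])])
    (wd := [(0, []), (0, [2]), (0, [1, 0]), (1, []), (2, [3]), (0, [0, 0]), (0, [2, 1]), (3, []),
      (4, []), (2, []), (4, [2]), (3, [0, 0]), (0, [2, 0]), (0, [0]), (1, [2]), (0, [1]), (3,
      [0]), (1, [1]), (2, [1]), (2, [2]), (3, [1]), (4, [0]), (4, [1]), (1, [3])])
    (by decide +kernel) (by decide +kernel) g hg

/-- `|C_K(X34, X15)| = 256`, double centralizer of order 16 -/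
theorem dc_34_15 (g : M24) (hg : ∀ c : M24, (∀ r ∈ [7, 3], c * xx r = xx r * c) → c * g = g * c) :
    ∃ w ∈ ([[], [2], [3], [7], [8], [2, 3], [2, 7], [2, 8], [3, 8], [7, 3], [7, 8], [2, 3, 8], [2,
      7, 3], [2, 7, 8], [7, 3, 8], [2, 7, 3, 8]] : List (List ℕ)), g = ev w :=
  dcent (rs := [7, 3])
    (cs := [336794484953633714140518107177461316, 944406397721449870536123853838816257,
      944409885015653881508317165181538921, 610972264826865994844706741664907426])
    (data := [(0, [[3, 2, 0], [0, 3, 0]]), (21, [[3], [2, 1]]), (16, [[0]])])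
    (wd := [(0, []), (0, [1]), (0, [3]), (1, [3, 1]), (0, [0]), (0, [0, 0]), (2, [1]), (2, [2, 1,
      0, 1]), (1, [1, 0]), (0, [2]), (1, [0, 1]), (2, [1, 0, 1]), (2, [0, 1]), (2, [2, 1]), (1,
      [0]), (2, [2, 0, 1]), (2, []), (1, [1]), (0, [1, 0]), (0, [3, 0]), (2, [2]), (1, []), (1,
      [0, 0]), (1, [3, 0])])
    (by decide +kernel) (by decide +kernel) g hg

/-- `|C_K(X34, X25)| = 128`, double centralizer of order 8 -/
theorem dc_34_25 (g : M24) (hg : ∀ c : M24, (∀ r ∈ [7, 6], c * xx r = xx r * c) → c * g = g * c) :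
    ∃ w ∈ ([[], [6], [7], [7, 6], [2, 5, 3, 8], [2, 5, 3, 6, 8], [2, 5, 7, 3, 8], [2, 5, 7, 3, 6,
      8]] : List (List ℕ)), g = ev w :=
  dcent (rs := [7, 6])
    (cs := [137935104962206912083219455161370656, 592353204691533442233142632973374465,
      719464747206367237783151874179580551, 984801159719152230658484461055870021])
    (data := [(7, [[1], [2, 2, 0]]), (3, [[3], [0, 2], [2, 1, 0]]), (18, [[0], [2]]), (6, [[1],
      [2]]), (21, [[3], [2, 1]])])
    (wd := [(0, [2, 0]), (0, [3, 2]), (0, [2]), (1, []), (2, [1]), (0, [1, 2]), (3, []), (0, []),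
      (4, [0]), (2, [3]), (4, [1]), (0, [3, 0]), (3, [3]), (3, [3, 0]), (1, [1, 0]), (3, [0]), (0,
      [0]), (1, [1]), (2, []), (2, [3, 1]), (0, [3]), (4, []), (4, [1, 0]), (1, [0])])
    (by decide +kernel) (by decide +kernel) g hg

/-- `|C_K(X34, X35)| = 1536`, double centralizer of order 4 -/
theorem dc_34_35 (g : M24) (hg : ∀ c : M24, (∀ r ∈ [7, 8], c * xx r = xx r * c) → c * g = g * c) :
    ∃ w ∈ ([[], [7], [8], [7, 8]] : List (List ℕ)), g = ev w :=
  dcent (rs := [7, 8])
    (cs := [876776955993639419800773722633414212, 445830260883764155832522319913989612,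
      890608987417978284818216038277841058])
    (data := [(4, [[2]]), (3, [[1, 0], [2, 1]])])
    (wd := [(0, [0, 0, 0]), (0, [0]), (0, [2, 0, 0, 0]), (1, []), (0, []), (0, [2, 0]), (0, [0, 1,
      0]), (0, [1, 0, 1, 0]), (1, [0]), (0, [0, 2, 0, 0, 0]), (1, [1, 2, 0]), (0, [2, 0, 1, 0]),
      (0, [1, 0, 0, 0]), (0, [2, 1, 1, 0]), (1, [0, 1]), (0, [1, 0]), (0, [1, 1, 0]), (1, [0, 0]),
      (0, [0, 0]), (0, [0, 2, 0]), (0, [2, 1, 0]), (1, [1]), (1, [0, 0, 0]), (1, [2, 0])])
    (by decide +kernel) (by decide +kernel) g hg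

/-- `|C_K(X15, X25)| = 1536`, double centralizer of order 4 -/
theorem dc_15_25 (g : M24) (hg : ∀ c : M24, (∀ r ∈ [3, 6], c * xx r = xx r * c) → c * g = g * c) :
    ∃ w ∈ ([[], [3], [6], [3, 6]] : List (List ℕ)), g = ev w :=
  dcent (rs := [3, 6])
    (cs := [979625500157097319740311687591380037, 106863708295434224693031718741391392,
      137935104962206912083219455161370656])
    (data := [(0, [[1], [0, 0, 2, 0]]), (10, [[0], [1, 1]]), (20, [[0], [1, 2]])])
    (wd := [(0, []), (0, [0, 1, 0, 0]), (0, [1, 1, 0]), (0, [0, 0]), (1, [0, 2, 1]), (0, [0]), (2,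
      [1, 1]), (2, [1, 0, 0, 1]), (1, [2, 1]), (1, [0, 0, 2]), (1, []), (2, [2]), (2, [1]), (2,
      [2, 1]), (0, [2, 1, 0, 0]), (2, [0, 1]), (2, [0, 0, 1]), (0, [1, 0, 0]), (1, [0, 2]), (1,
      [0, 0, 2, 1]), (2, []), (1, [1]), (1, [2]), (0, [1, 0])])
    (by decide +kernel) (by decide +kernel) g hg

/-- `|C_K(X15, X35)| = 1536`, double centralizer of order 4 -/
theorem dc_15_35 (g : M24) (hg : ∀ c : M24, (∀ r ∈ [3, 8], c * xx r = xx r * c) → c * g = g * c) :
    ∃ w ∈ ([[], [3], [8], [3, 8]] : List (List ℕ)), g = ev w :=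
  dcent (rs := [3, 8])
    (cs := [735129678848087916392418301325331049, 362305407782009255426547152437182533,
      883632495122774236216322106419873385])
    (data := [(0, [[2, 1], [2, 0, 0]]), (8, [[0], [2, 2]]), (6, [[1], [0, 0]])])
    (wd := [(0, []), (0, [1, 1]), (0, [2, 1, 0]), (1, [0, 1]), (0, [1, 0]), (0, [1]), (2, []), (2,
      [0, 2]), (1, []), (0, [0]), (1, [2, 1]), (2, [2, 2]), (2, [2, 2, 2]), (2, [0]), (1, [1]),
      (2, [2, 0, 2]), (2, [2]), (1, [2, 0, 1]), (0, [2, 0]), (0, [1, 1, 0]), (2, [2, 0]), (1, [0,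
      2, 1]), (1, [2]), (1, [1, 2])])
    (by decide +kernel) (by decide +kernel) g hg

/-- `|C_K(X25, X35)| = 128`, double centralizer of order 8 -/
theorem dc_25_35 (g : M24) (hg : ∀ c : M24, (∀ r ∈ [6, 8], c * xx r = xx r * c) → c * g = g * c) :
    ∃ w ∈ ([[], [3], [6], [8], [3, 6], [3, 8], [6, 8], [3, 6, 8]] : List (List ℕ)), g = ev w :=
  dcent (rs := [6, 8])
    (cs := [592790562009131377257278574663141377, 152793237658588775470751665693103105,
      717408221806189502441306310090391621, 966627407121561417643508553876013125])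
    (data := [(0, [[1, 0], [3, 2, 0]]), (23, [[3], [2, 1]]), (4, [[0], [1]]), (16, [[1], [3, 0]]),
      (10, [[0], [2], [3]])])
    (wd := [(0, []), (0, [0]), (0, [2, 0]), (1, [1]), (2, []), (0, [2]), (3, [0]), (3, [0, 2]),
      (4, [1]), (2, [0, 3]), (4, []), (3, [2, 2]), (3, [2]), (3, [3]), (1, [0]), (3, [1, 2]), (3,
      []), (1, [2]), (2, [3, 3]), (2, [3]), (3, [2, 0]), (4, [1, 0, 1]), (4, [0, 1]), (1, [])])
    (by decide +kernel) (by decide +kernel) g hg

end Cfsg.Agent.KFacts.M24Pair.Pairs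

end

-- merged: Cfsg.Agent.KFacts.M24Pair.FactsQ
section

/-!
# `FactsQ` for `X = Cfsg.M24`

`z = X15`, `E = ⟨X12, X13, X14, X15⟩`, `E' = ⟨X21, X23, X24, X25⟩`, `V = ⟨X23, X24, X25⟩`, `r = X24`, `s = X35`,
`w = X34`, `w' = X35` (letters of `M24Pair.Letters`).
-/

set_option autoImplicit false
set_option Elab.async false

namespace Cfsg.Agent.KFacts.M24Pair.FactsQ

open Cfsg Cfsg.Agent.SporadicA.GolayBase Cfsg.Agent.SporadicA.GolayPerm
open Cfsg.Agent.SporadicStructure.M24El Cfsg.Agent.KFacts.M24Pair.Cent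
open Cfsg.Agent.KFacts.M24Pair.Letters Cfsg.Agent.KFacts.M24Pair.Sub
open Cfsg.Agent.KFacts.M24Pair.TrioQ Cfsg.Agent.KFacts.M24Pair.Fix
open Cfsg.Agent.OddHalf.M24

/-! ### Transvections on `E` -/

/-- `Tv` without the elements `c` of (K3). -/
structure T0 {X : Type*} [Group X] (z : X) (E : Subgroup X) (w : X) : Prop where
  wC : w ∈ Cl z
  wE : w ∉ E
  nor : ∀ e ∈ E, w * e * w⁻¹ ∈ E
  tv : ∃ a ∈ E, a ≠ 1 ∧ w * a = a * w ∧ (∀ e ∈ E, w * e = e * w ∨ w * e * w⁻¹ = e * a) ∧
    ∃ e ∈ E, w * e * w⁻¹ = e * a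
  k3 : ∀ q, q * q = 1 → (∀ e ∈ E, w * e = e * w → q * e = e * q) → q * w = w * q ∨ q ∈ E

theorem T0.toTv {X : Type*} [Group X] {z : X} {E : Subgroup X} {w : X} (h : T0 z E w) :
    Tv z E w :=
  ⟨h.wC, h.wE, h.nor, h.tv, fun q h1 h2 _ => h.k3 q h1 h2⟩

theorem T0.conj {X : Type*} [Group X] {z : X} {E : Subgroup X} {w : X} (h : T0 z E w) {k : X}
    (hk : ∀ e ∈ E, k * e * k⁻¹ ∈ E) (hk' : ∀ e ∈ E, k⁻¹ * e * k ∈ E) :
    T0 z E (k * w * k⁻¹) where
  wC := by
    obtain ⟨c, hc⟩ := h.wC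
    exact ⟨k * c, by rw [← hc]; group⟩
  wE hE := h.wE (by
    have h1 := hk' _ hE
    have h2 : k⁻¹ * (k * w * k⁻¹) * k = w := by group
    rwa [h2] at h1)
  nor e he := by
    have h1 := hk _ (h.nor _ (hk' e he))
    have h2 : k * (w * (k⁻¹ * e * k) * w⁻¹) * k⁻¹ = k * w * k⁻¹ * e * (k * w * k⁻¹)⁻¹ := by group
    rwa [h2] at h1
  tv := by
    obtain ⟨a, ha, ha1, hwa, h1, e, he, hee⟩ := h.tv
    refine ⟨k * a * k⁻¹, hk a ha, ?_, ?_, ?_, k * e * k⁻¹, hk e he, ?_⟩
    · intro h2
      exact ha1 (by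
        have h3 : a = k⁻¹ * (k * a * k⁻¹) * k := by group
        rw [h3, h2]
        group)
    · have h2 : k * w * k⁻¹ * (k * a * k⁻¹) = k * (w * a) * k⁻¹ := by group
      rw [h2, hwa]
      group
    · intro e he
      rcases h1 _ (hk' e he) with h2 | h2
      · left
        have h3 : k * w * k⁻¹ * e = k * (w * (k⁻¹ * e * k)) * k⁻¹ := by group
        rw [h3, h2]
        group
      · right
        have h3 : k * w * k⁻¹ * e * (k * w * k⁻¹)⁻¹ = k * (w * (k⁻¹ * e * k) * w⁻¹) * k⁻¹ := by group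
        rw [h3, h2]
        group
    · have h3 : k * w * k⁻¹ * (k * e * k⁻¹) * (k * w * k⁻¹)⁻¹ = k * (w * e * w⁻¹) * k⁻¹ := by group
      rw [h3, hee]
      group
  k3 q hq hc := by
    have hq' : k⁻¹ * q * k * (k⁻¹ * q * k) = 1 := by
      have h1 : k⁻¹ * q * k * (k⁻¹ * q * k) = k⁻¹ * (q * q) * k := by group
      rw [h1, hq]
      group
    rcases h.k3 _ hq' (fun e he hwe => by
      have h1 : k * w * k⁻¹ * (k * e * k⁻¹) = k * e * k⁻¹ * (k * w * k⁻¹) := by
        have h2 : k * w * k⁻¹ * (k * e * k⁻¹) = k * (w * e) * k⁻¹ := by group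
        rw [h2, hwe]
        group
      have h3 := hc _ (hk e he) h1
      have h4 : k⁻¹ * q * k * e = k⁻¹ * (q * (k * e * k⁻¹)) * k := by group
      rw [h4, h3]
      group) with h1 | h1
    · left
      have h2 : q * (k * w * k⁻¹) = k * (k⁻¹ * q * k * w) * k⁻¹ := by group
      rw [h2, h1]
      group
    · right
      have h2 := hk _ h1
      have h3 : k * (k⁻¹ * q * k) * k⁻¹ = q := by group
      rwa [h3] at h2

theorem mem_Cl {g : M24} (h : IsConj (xx 3) g) : g ∈ Cl (xx 3) := isConj_iff.1 h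

theorem isConj_of_mem_Cl {g : M24} (h : g ∈ Cl (xx 3)) : IsConj (xx 3) g := isConj_iff.2 h

theorem xx_ne_one {k : ℕ} (hk : k < 18) : xx k ≠ 1 := by
  have key : ∀ k < 18, (List.range 24).any (fun i =>
      !(Nat.beq (papp (prodW gx [k]) i) (papp (prodW gx []) i))) = true := by decide +kernel
  have h := wne (key k hk)
  rwa [ev_cons, ev_nil, mul_one] at h

theorem tv5_tab : ∀ u ∈ subs [0,1,2,3],
    weqb (5 :: u) (u ++ [5]) = true ∨ weqb (5 :: u) (u ++ [2, 5]) = true := by
  decide +kernel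

theorem sq_tab : ∀ u ∈ subs [0,1,2,3], ∀ v ∈ subs [4,5,6], v = [] ∨ 0 ∉ u ∨
    Nat.beq (can (prodW gx (u ++ v ++ (u ++ v)))) (can (prodW gx [])) = false := by
  decide +kernel

theorem V5_tab : ∀ v ∈ subs [4,5,6], weqb (v ++ [5]) (5 :: v) = true := by decide +kernel

theorem t0_X24 : T0 (xx 3) (gen [0,1,2,3]) (xx 5) where
  wC := mem_Cl (V_conj_z (xx_mem (by decide)) (xx_ne_one (by norm_num)))
  wE h := xx_ne_one (k := 5) (by norm_num) (eq_one_of_mem h (xx_mem (by decide)))
  nor e he := V_norm (xx_mem (by decide)) he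
  tv := by
    refine ⟨xx 2, xx_mem (by decide), xx_ne_one (by norm_num), ?_, ?_, xx 0, xx_mem (by decide), ?_⟩
    · have h := weq (u := [5, 2]) (v := [2, 5]) (by decide +kernel)
      simpa only [ev_cons, ev_nil, mul_one] using h
    · intro e he
      obtain ⟨u, hu, rfl⟩ := (mem_gen_iff clo_E e).1 he
      rcases tv5_tab u hu with h | h
      · left
        have h1 := weq h
        rwa [ev_append, ev_cons, ev_cons, ev_nil, mul_one] at h1
      · right
        have h1 := weq h
        rw [ev_append, ev_cons, ev_cons, ev_cons, ev_nil, mul_one] at h1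
        rw [h1]
        group
    · have h := weq (u := [5, 0]) (v := [0, 2, 5]) (by decide +kernel)
      simp only [ev_cons, ev_nil, mul_one] at h
      rw [h]
      group
  k3 q hq hc := by
    have hQ : q ∈ gen [0,1,2,3,4,5,6] := by
      apply mem_Q_of_comm
      intro a ha
      exact hc a (A_le_E ha) (A_comm ha (xx_mem (by decide))).symm
    obtain ⟨u, hu, v, hv, rfl⟩ := exists_words hQ
    rcases sq_tab u hu v hv with rfl | h | h
    · right
      rw [ev_nil, mul_one]
      exact ev_mem_E hu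
    · left
      have hA : ev u ∈ gen [1,2,3] := by
        have h3 := mem_of_mem_subs hu
        refine ev_mem fun k hk => xx_mem ?_
        have h4 := h3 k hk
        have h5 : k ≠ 0 := fun h' => h (h' ▸ hk)
        simp only [List.mem_cons, List.not_mem_nil, or_false] at h4 ⊢
        tauto
      have h1 := weq (V5_tab v hv)
      rw [ev_append, ev_cons, ev_cons, ev_nil, mul_one] at h1
      rw [mul_assoc, h1, ← mul_assoc, A_comm hA (xx_mem (ls := [0,1,2,3,4,5,6]) (by decide)),
        mul_assoc]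
    · exfalso
      rw [← ev_append, ← ev_append, ← ev_nil, ← el_prodW_eq, ← el_prodW_eq] at hq
      rw [can_eq_of_el (ok_prodW gx_ok _) (ok_prodW gx_ok _) hq, Nat.beq_refl] at h
      exact Bool.noConfusion h

/-- reversed inverse words in the letters `< 18` -/
def iv (u : List ℕ) : List ℕ :=
  (u.map fun k => if k = 12 then 13 else if k = 13 then 12 else if k = 14 then 15 else
    if k = 15 then 14 else k).reverse

/-- the elements of `N(E)` conjugating `X24` to the other transvections -/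
def tabT : List (List ℕ × List ℕ) := [([4], [7, 11]), ([5], []), ([6], [15]), ([4, 5], [11]),
  ([4, 6], [15, 11]), ([5, 6], [9]), ([4, 5, 6], [11, 9]), ([8], [15, 4, 10]), ([7], [4, 10])]

theorem tabT_ok : ∀ p ∈ tabT, weqb (p.2 ++ [5]) (p.1 ++ p.2) = true ∧
    nb p.2 [0,1,2,3] [0,1,2,3] = true ∧ nb (iv p.2) [0,1,2,3] [0,1,2,3] = true ∧
      weqb (iv p.2 ++ p.2) [] = true := by
  decide +kernel

theorem t0_of_tab {p : List ℕ × List ℕ} (hp : p ∈ tabT) : T0 (xx 3) (gen [0,1,2,3]) (ev p.1) := by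
  obtain ⟨h1, h2, h3, h4⟩ := tabT_ok p hp
  have h5 := weq h1
  rw [ev_append, ev_append, ev_cons, ev_nil, mul_one] at h5
  have h6 := weq h4
  rw [ev_append, ev_nil, mul_eq_one_iff_eq_inv] at h6
  have h7 : ev p.1 = ev p.2 * xx 5 * (ev p.2)⁻¹ := by rw [h5]; group
  rw [h7]
  refine t0_X24.conj (fun e he => conj_mem h2 he) fun e he => ?_
  have h8 := conj_mem h3 he
  rwa [h6, inv_inv] at h8

/-- `V# ` consists of transvections on `E`. -/
theorem t0_V {v : M24} (hv : v ∈ gen [4,5,6]) (h1 : v ≠ 1) : T0 (xx 3) (gen [0,1,2,3]) v := by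
  obtain ⟨u, hu, rfl⟩ := (mem_gen_iff clo_V v).1 hv
  have h : ∀ u ∈ subs [4,5,6], u = [] ∨ u ∈ tabT.map Prod.fst := by decide
  rcases h u hu with rfl | h2
  · exact absurd ev_nil h1
  · obtain ⟨p, hp, rfl⟩ := List.mem_map.1 h2
    exact t0_of_tab hp

theorem ev_single (k : ℕ) : ev [k] = xx k := by rw [ev_cons, ev_nil, mul_one]

theorem t0_X35 : T0 (xx 3) (gen [0,1,2,3]) (xx 8) := by
  have h := t0_of_tab (p := ([8], [15, 4, 10])) (by decide)
  rwa [ev_single] at h

theorem t0_X34 : T0 (xx 3) (gen [0,1,2,3]) (xx 7) := by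
  have h := t0_of_tab (p := ([7], [4, 10])) (by decide)
  rwa [ev_single] at h

/-! ### `FactsQ` -/

theorem EV_eq : gen [0,1,2,3] ⊔ gen [4,5,6] = gen [0,1,2,3,4,5,6] := by
  apply le_antisymm (sup_le E_le_Q V_le_Q)
  refine gen_le fun k hk => ?_
  have h : k ∈ [0,1,2,3] ∨ k ∈ [4,5,6] := by
    simp only [List.mem_cons, List.not_mem_nil, or_false] at hk ⊢
    omega
  rcases h with h | h
  · exact Subgroup.mem_sup_left (xx_mem h)
  · exact Subgroup.mem_sup_right (xx_mem h)

theorem notMem_Q_tab : ∀ u ∈ ([[7], [8], [7, 8]] : List (List ℕ)), ∀ w ∈ subs [0,1,2,3,4,5,6],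
    Nat.beq (can (prodW gx u)) (can (prodW gx w)) = false := by
  decide +kernel

theorem notMem_Q {u : List ℕ} (hu : u ∈ ([[7], [8], [7, 8]] : List (List ℕ))) :
    ev u ∉ gen [0,1,2,3,4,5,6] := by
  intro h
  obtain ⟨w, hw, h1⟩ := (mem_gen_iff clo_Q _).1 h
  have h2 := notMem_Q_tab u hu w hw
  rw [← el_prodW_eq, ← el_prodW_eq] at h1
  rw [can_eq_of_el (ok_prodW gx_ok _) (ok_prodW gx_ok _) h1, Nat.beq_refl] at h2
  exact Bool.noConfusion h2

/-- Conjugations in both directions. -/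
theorem conj_iff {u ls ls' : List ℕ} (h1 : nb u ls ls' = true) (h2 : nb (iv u) ls' ls = true)
    (h3 : weqb (iv u ++ u) [] = true) (x : M24) :
    x ∈ gen ls ↔ ev u * x * (ev u)⁻¹ ∈ gen ls' := by
  refine ⟨conj_mem h1, fun h => ?_⟩
  have h4 := conj_mem h2 h
  have h6 := weq h3
  rw [ev_append, ev_nil, mul_eq_one_iff_eq_inv] at h6
  have h5 : ev (iv u) * (ev u * x * (ev u)⁻¹) * (ev (iv u))⁻¹ = x := by
    rw [h6]
    group
  rwa [h5] at h4

theorem B2_norm : ∀ k ∈ ([2,3,5,6,7,8] : List ℕ), nb [k] [0,1,2,3] [0,1,2,3] = true := by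
  decide +kernel

/-- Words in letters normalising `E` normalise `E`. -/
theorem norm_of_word {w : List ℕ} (hw : ∀ k ∈ w, k ∈ ([2,3,5,6,7,8] : List ℕ)) :
    ∀ e ∈ gen [0,1,2,3], ev w * e * (ev w)⁻¹ ∈ gen [0,1,2,3] := by
  induction w with
  | nil =>
    intro e he
    rw [ev_nil]
    simpa using he
  | cons k w ih =>
    intro e he
    have h1 := ih (fun l hl => hw l (List.mem_cons_of_mem _ hl)) e he
    have h2 := conj_mem (B2_norm k (hw k List.mem_cons_self)) h1
    rw [ev_single] at h2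
    rw [ev_cons]
    have h3 : xx k * ev w * e * (xx k * ev w)⁻¹ = xx k * (ev w * e * (ev w)⁻¹) * (xx k)⁻¹ := by
      group
    rwa [h3]

/-- **`FactsQ` for `M24`.** -/
theorem factsQ : FactsQ (xx 3) (gen [0,1,2,3]) (gen [16,4,5,6]) (gen [4,5,6]) (xx 5) (xx 8) (xx 7)
    (xx 8) where
  VE' := V_le_E'
  norV e he h := norm_E' he h
  inf v hv hE := eq_one_of_mem hE hv
  tvV v hv h1 := (t0_V hv h1).toTv
  tvr := t0_X24.toTv
  tvs := t0_X35.toTv
  tvw := t0_X34.toTv
  tvw' := t0_X35.toTv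
  rs := by
    have h := weq (u := [5, 8]) (v := [8, 5]) (by decide +kernel)
    simpa only [ev_cons, ev_nil, mul_one] using h
  rsC := by
    have h := weq (u := [16, 10, 12] ++ [3]) (v := [5, 8] ++ [16, 10, 12]) (by decide +kernel)
    rw [ev_append, ev_append, ev_single] at h
    refine ⟨ev [16, 10, 12], ?_⟩
    rw [h, mul_inv_cancel_right, ev_cons, ev_single]
  dcrs x hx := by
    obtain ⟨w, hw, rfl⟩ := Pairs.dc_24_35 x (fun c hc => by
      have h5 := hc 5 (by decide)
      have h8 := hc 8 (by decide)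
      exact (hx c h5 h8).symm)
    have h : ∀ w ∈ ([[], [5], [8], [5, 8], [2, 7, 3, 6], [2, 5, 7, 3, 6], [2, 7, 3, 6, 8],
        [2, 5, 7, 3, 6, 8]] : List (List ℕ)), ∀ k ∈ w, k ∈ ([2,3,5,6,7,8] : List ℕ) := by decide
    exact norm_of_word (h w hw)
  kw := ⟨ev [15, 4, 0, 17], conj_iff (by decide +kernel) (by decide +kernel) (by decide +kernel), by
    have h := weq (u := [15, 4, 0, 17] ++ [7]) (v := [5, 8] ++ [15, 4, 0, 17]) (by decide +kernel)
    rw [ev_append, ev_append, ev_single] at h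
    rw [h, mul_inv_cancel_right, ev_cons, ev_single]⟩
  kw' := ⟨ev [4, 0, 17], conj_iff (by decide +kernel) (by decide +kernel) (by decide +kernel), by
    have h := weq (u := [4, 0, 17] ++ [8]) (v := [5, 8] ++ [4, 0, 17]) (by decide +kernel)
    rw [ev_append, ev_append, ev_single] at h
    rw [h, mul_inv_cancel_right, ev_cons, ev_single]⟩
  norQ k hk e he := by
    rw [EV_eq] at hk
    exact normQ_normE hk he
  conjV c hc hC hE := by
    rw [EV_eq] at hc
    exact fuse_Q hc hE (isConj_of_mem_Cl hC)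
  ww' := by
    have h := weq (u := [7, 8]) (v := [8, 7]) (by decide +kernel)
    simpa only [ev_cons, ev_nil, mul_one] using h
  wQ := by
    rw [EV_eq, ← ev_single]
    exact notMem_Q (by decide)
  w'Q := by
    rw [EV_eq, ← ev_single]
    exact notMem_Q (by decide)
  ww'Q := by
    have h := notMem_Q (u := [7, 8]) (by decide)
    rw [ev_cons, ev_single] at h
    rw [EV_eq]
    exact h

end Cfsg.Agent.KFacts.M24Pair.FactsQ

end

-- merged: Cfsg.Agent.KFacts.M24Pair.LGood
section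

/-!
# `GoodL` for `N(Q) / Q = L3(2)` (ODD half, D8, `K = M24`, fact (F))

* `goodL_of_simple`: a simple group of order 168 is `GoodL`;
* `exists_rho`: `R = N(Q)`, `ρ : R → MulAut A` onto with kernel `Q`, `GoodL`, `|M24 : R|` odd.
-/

set_option autoImplicit false
set_option Elab.async false

namespace Cfsg.Agent.KFacts.M24Pair.LGood

open Cfsg Subgroup Cfsg.Agent.OddHalf.D8
open Cfsg.Agent.KFacts.M24Pair.LQuot Cfsg.Agent.KFacts.M24Pair.Sub
open Cfsg.Agent.KFacts.M24Pair.Letters

theorem orderOf_two {L : Type*} [Group L] {a : L} (h : a * a = 1) (h1 : a ≠ 1) : orderOf a = 2 :=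
  orderOf_eq_prime (by rw [pow_two, h]) h1

theorem orderOf_two_iff {L : Type*} [Group L] {a : L} : orderOf a = 2 ↔ a * a = 1 ∧ a ≠ 1 := by
  constructor
  · intro h
    refine ⟨by rw [← pow_two, ← h, pow_orderOf_eq_one], ?_⟩
    rintro rfl
    rw [orderOf_one] at h
    omega
  · rintro ⟨h, h1⟩
    exact orderOf_two h h1

/-- A simple group of order 168. -/
theorem goodL_of_simple {L : Type*} [Group L] [IsSimpleGroup L] (h : Nat.card L = 168) :
    SignKill.GoodL L where
  perf f l := by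
    have : Finite L := Nat.finite_of_card_ne_zero (by rw [h]; norm_num)
    rcases (inferInstance : f.ker.Normal).eq_bot_or_eq_top with h1 | h1
    · exfalso
      have h2 : Function.Injective f := (MonoidHom.ker_eq_bot_iff f).1 h1
      have h3 := Nat.card_le_card_of_injective f h2
      have h4 : Nat.card ℤˣ = 2 := by rw [Nat.card_eq_fintype_card]; rfl
      omega
    · exact MonoidHom.mem_ker.1 (h1 ▸ mem_top l)
  inv := by
    have : Finite L := Nat.finite_of_card_ne_zero (by rw [h]; norm_num)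
    have h1 := SmallSimple.Simple168Classes.card_orderOf_two h
    have h2 : Nat.card {l : L // l * l = 1 ∧ l ≠ 1} = Nat.card {l : L // orderOf l = 2} :=
      Nat.card_congr (Equiv.subtypeEquivRight fun l => orderOf_two_iff.symm)
    rw [h2, h1]
  conj a b ha ha1 hb hb1 := by
    have : Finite L := Nat.finite_of_card_ne_zero (by rw [h]; norm_num)
    exact SmallSimple.Simple168Classes.isConj_of_orderOf_two h a b (orderOf_two ha ha1)
      (orderOf_two hb hb1)
  four a b ha ha1 hb hb1 hab hc := by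
    have : Finite L := Nat.finite_of_card_ne_zero (by rw [h]; norm_num)
    have ia : a⁻¹ = a := inv_eq_of_mul_eq_one_left ha
    have ib : b⁻¹ = b := inv_eq_of_mul_eq_one_left hb
    let U : Subgroup L :=
      { carrier := {x | x = 1 ∨ x = a ∨ x = b ∨ x = a * b}
        one_mem' := Or.inl rfl
        mul_mem' := by
          rintro x y (rfl | rfl | rfl | rfl) (rfl | rfl | rfl | rfl)
          · left; rw [mul_one]
          · right; left; rw [one_mul]
          · right; right; left; rw [one_mul]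
          · right; right; right; rw [one_mul]
          · right; left; rw [mul_one]
          · left; exact ha
          · right; right; right; rfl
          · right; right; left; rw [← mul_assoc, ha, one_mul]
          · right; right; left; rw [mul_one]
          · right; right; right; exact hc.symm
          · left; exact hb
          · right; left; rw [hc, ← mul_assoc, hb, one_mul]
          · right; right; right; rw [mul_one]
          · right; right; left; rw [mul_assoc, ← hc, ← mul_assoc, ha, one_mul]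
          · right; left; rw [mul_assoc, hb, mul_one]
          · left
            calc a * b * (a * b) = a * (b * a) * b := by group
              _ = a * (a * b) * b := by rw [hc]
              _ = (a * a) * (b * b) := by group
              _ = 1 := by rw [ha, hb, one_mul]
        inv_mem' := by
          rintro x (rfl | rfl | rfl | rfl)
          · left; rw [inv_one]
          · right; left; exact ia
          · right; right; left; exact ib
          · right; right; right; rw [mul_inv_rev, ia, ib, hc] }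
    have haU : a ∈ U := Or.inr (Or.inl rfl)
    have hbU : b ∈ U := Or.inr (Or.inr (Or.inl rfl))
    have hab1 : a * b ≠ 1 := by
      intro h1
      apply hab
      rw [mul_eq_one_iff_eq_inv.1 h1, ib]
    have habU : a * b ≠ a := fun h1 => hb1 (mul_eq_left.1 h1)
    have habU' : a * b ≠ b := fun h1 => ha1 (mul_eq_right.1 h1)
    have hcU : Nat.card U = 4 := by
      classical
      have h1 : (U : Set L) = (({1, a, b, a * b} : Finset L) : Set L) := by
        ext x
        simp only [Finset.coe_insert, Finset.coe_singleton, Set.mem_insert_iff,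
          Set.mem_singleton_iff]
        rfl
      have h2 : Nat.card U = (U : Set L).ncard := rfl
      rw [h2, h1, Set.ncard_coe_finset]
      rw [Finset.card_insert_of_notMem, Finset.card_insert_of_notMem, Finset.card_insert_of_notMem,
        Finset.card_singleton]
      · rw [Finset.mem_singleton]; exact fun h3 => habU' h3.symm
      · rw [Finset.mem_insert, Finset.mem_singleton]
        rintro (h3 | h3)
        · exact hab h3
        · exact habU h3.symm
      · rw [Finset.mem_insert, Finset.mem_insert, Finset.mem_singleton]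
        rintro (h3 | h3 | h3)
        · exact ha1 h3.symm
        · exact hb1 h3.symm
        · exact hab1 h3.symm
    have hK : IsKleinFour U := by
      refine ⟨hcU, ?_⟩
      have hsq : ∀ x : U, x ^ 2 = 1 := by
        rintro ⟨x, hx⟩
        apply Subtype.ext
        change x ^ 2 = 1
        rw [pow_two]
        rcases hx with rfl | rfl | rfl | rfl
        · rw [one_mul]
        · exact ha
        · exact hb
        · calc a * b * (a * b) = a * (b * a) * b := by group
            _ = a * (a * b) * b := by rw [hc]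
            _ = (a * a) * (b * b) := by group
            _ = 1 := by rw [ha, hb, one_mul]
      have hd : Monoid.exponent U ∣ 2 := Monoid.exponent_dvd_of_forall_pow_eq_one hsq
      rcases (Nat.dvd_prime Nat.prime_two).1 hd with h3 | h3
      · exfalso
        have h4 := Monoid.pow_exponent_eq_one (⟨a, haU⟩ : U)
        rw [h3, pow_one] at h4
        exact ha1 (congrArg Subtype.val h4)
      · exact h3
    refine ⟨normalizer (U : Set L), ?_, ?_, ?_⟩
    · rw [SmallSimple.Simple168Klein.card_normalizer h hK]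
      norm_num
    · intro r hr
      have h1 : r * a * r⁻¹ ∈ U := (mem_normalizer_iff.1 hr a).1 haU
      rcases h1 with h1 | h1
      · exact absurd (conj_eq_one_iff.1 h1) ha1
      · exact h1
    · intro r hr
      have h1 : r * b * r⁻¹ ∈ U := (mem_normalizer_iff.1 hr b).1 hbU
      rcases h1 with h1 | h1
      · exact absurd (conj_eq_one_iff.1 h1) hb1
      · exact h1
  n16 := by rw [h]; norm_num

/-- `|M24 : N(Q)|` is odd. -/
theorem odd_index : Odd N.index := by
  have h1 := N.card_mul_index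
  have hM : Nat.card M24 = 244823040 := Cfsg.Agent.SporadicA.M24Trans.card_M24
  have h2 : Nat.card N = 128 * 168 := by
    have h3 : Nat.card φ.ker * φ.ker.index = Nat.card N := φ.ker.card_mul_index
    have h4 : Nat.card φ.ker = 128 := by
      rw [ker_φ, ← card_Q]
      exact Nat.card_congr (subgroupOfEquivOfLe (le_normalizer (H := Q))).toEquiv
    have h5 : φ.ker.index = 168 := by
      rw [index_ker, range_φ, card_top]
      exact oct_A.card_aut
    rw [← h3, h4, h5]
  rw [h2, hM] at h1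
  have h3 : N.index = 11385 := by omega
  rw [h3]
  decide

/-- **Fact (F).** -/
theorem exists_rho : SignKill.GoodL (MulAut A) ∧ Function.Surjective φ ∧
    (∀ r : N, φ r = 1 ↔ (r : M24) ∈ Q) ∧ Odd N.index := by
  have := oct_A.simple_aut
  exact ⟨goodL_of_simple oct_A.card_aut, φ_surjective,
    fun r => (MonoidHom.mem_ker (f := φ)).symm.trans mem_ker, odd_index⟩

end Cfsg.Agent.KFacts.M24Pair.LGood

end

-- merged: Cfsg.Agent.OddHalf.M24.RowM24
section

/-!
# ODD half, D8: the row `K = M24` (helper785)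

Facts by helper269 (`FactsP`), helper946 (`FactsE`, automorphisms), helper508 (`FactsQ`), helper138 (`FactsL`).
-/

set_option autoImplicit false

namespace Cfsg.Agent.OddHalf.M24.RowM24

open Subgroup Cfsg Cfsg.Agent.KFacts.TwoSix.M24 Cfsg.Agent.KFacts.TwoSix.Sheet
open Cfsg.Agent.KFacts.M24Pair.Letters (xx)
open Cfsg.Agent.KFacts.M24Two.CentZ (z E1 E2 C)

universe u

theorem factsS : FactsS z := by
  refine ⟨?_, KFacts.M24Two.CentZ.C_perfect⟩
  obtain ⟨f, hf, hx⟩ := exists_f
  have hS := sheet_of hf.inj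
  rw [im_R1 hx, im_R2 hx, hf.map_zz, hf.range] at hS
  have : Fact (Nat.Prime 2) := ⟨Nat.prime_two⟩
  set D : Subgroup M24 := centralizer ({z} : Set M24) with hD
  obtain ⟨T⟩ : Nonempty (Sylow 2 D) := inferInstance
  set S0 : Subgroup M24 := (T : Subgroup D).map D.subtype with hS0
  have hle : S0 ≤ D := map_subtype_le _
  have hrel : ¬ 2 ∣ S0.relIndex D := by
    have h1 : S0.subgroupOf D = T := comap_map_eq_self_of_injective D.subtype_injective _
    rw [relIndex, h1]
    exact T.not_dvd_index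
  have hcard : Nat.card D = 21504 := KFacts.M24Two.CentZ.card_C
  have hM : Nat.card M24 = 244823040 := Cfsg.Agent.SporadicA.M24Trans.card_M24
  have hidx : D.index = 11385 := by
    have h1 := D.card_mul_index
    rw [hcard, hM] at h1
    omega
  have hindex : ¬ 2 ∣ S0.index := by
    rw [← relIndex_mul_index hle, Nat.Prime.dvd_mul Nat.prime_two, hidx]
    intro h
    rcases h with h | h
    · exact hrel h
    · omega
  have hp : IsPGroup 2 S0 := T.isPGroup'.map _
  have hSc : ∀ x ∈ S0, x * z = z * x := fun x hx => mem_centralizer_singleton_iff.1 (hle hx)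
  have hcoe : ((hp.toSylow hindex : Sylow 2 M24) : Subgroup M24) = S0 := rfl
  have hmem : ∀ x, x ∈ hp.toSylow hindex ↔ x ∈ S0 := fun x => Iff.rfl
  have hzS : z ∈ S0 := by
    have h1 : IsPGroup 2 ((zpowers z ⊔ S0 : Subgroup M24)) := by
      refine IsPGroup.to_sup_of_normal_right' (TR.Frame.isPGroup_zpowers KFacts.M24Two.CentZ.zz) hp ?_
      · rw [zpowers_le, mem_normalizer_iff]
        intro x
        have hz2 := KFacts.M24Two.CentZ.zz
        constructor
        · intro hx
          have : z * x * z⁻¹ = x := by rw [← hSc x hx, mul_inv_cancel_right]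
          rwa [this]
        · intro hx
          have h3 := hSc _ hx
          have h4 : x = z * x * z⁻¹ := by
            have h5 : z * x = z * (z * x * z⁻¹) := by rw [← h3]; group
            exact mul_left_cancel h5
          rwa [← h4] at hx
    have h2 := (hp.toSylow hindex).is_maximal' h1 le_sup_right
    have h3 : z ∈ zpowers z ⊔ S0 := (le_sup_left : zpowers z ≤ _) (mem_zpowers z)
    rw [h2] at h3
    exact h3
  refine ⟨hp.toSylow hindex, hzS, fun x hx => hSc x hx, fun y hy hc => ?_⟩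
  exact hS.syl S0 hle hp hrel y (hle hy) fun s hs => (hc s hs).symm

theorem factsL : FactsL (KFacts.M24Pair.LQuot.E ⊔ KFacts.M24Pair.LQuot.V) := by
  rw [KFacts.M24Pair.LQuot.E_sup_V]
  obtain ⟨h1, h2, h3, h4⟩ := KFacts.M24Pair.LGood.exists_rho
  exact ⟨⟨_, _, _, h2, h3, h1⟩, h4⟩

/-- **all facts about `M24`** -/
theorem all : All Cfsg.M24 where
  ex := ⟨_, _, _, _, _, _, _, _, _, FactsPM24.factsP, KFacts.M24Two.Join.factsE,
    KFacts.M24Pair.FactsQ.factsQ, factsL, factsS⟩
  inn := KFacts.M24Two.Out.exists_conj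

/-- **the row `K = M24`** -/
theorem row : D8.Rows.Row.{u} (fun K _ => Spor.IsoM24 K) := row_of all

end Cfsg.Agent.OddHalf.M24.RowM24

end
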